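import Groth.Agent.AmpleLib.Tensor
import Groth.Agent.AmpleLib.Span
import Groth.Agent.ProjMorph.Ample

/-!
# Ample modules from globally generated modules with affine loci
-/

set_option autoImplicit false
set_option linter.style.haveILetI false
set_option backward.isDefEq.respectTransparency.types false

universe u

open CategoryTheory CategoryTheory.Limits AlgebraicGeometry TopologicalSpace Opposite

noncomputable section

namespace Groth.Agent.DimOneAmple

open Groth.Agent.QCoh Groth.Agent.Props.GenLocus Groth.Agent.Props.GenTensor Groth.Agent.AmpleLib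

variable {X : Scheme.{u}}

/-- A globally generated invertible module has a global section generating at any given point. -/
theorem exists_genLocus_mem {L : X.Modules} (hL : PicF.IsInvertible L)
    (hgg : Curv2.IsGloballyGenerated L) (x : X) : ∃ σ : Γ(L, ⊤), x ∈ locus σ := by
  obtain ⟨ι, p, hp⟩ := hgg
  let p' : (∐ fun _ : ι => Coh.structureModule X) ⟶ L := p
  haveI : Epi p' := hp
  exact exists_locus_mem hL (O := ⊤) trivial fun W hxW m =>
    germ_mem_span_of_epi p' m x hxW

lemma locus_one : locus (O := ⊤) (one' (⊤ : X.Opens)) = ⊤ :=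
  top_le_iff.mp (le_locus le_rfl (by rw [res_self]; exact Groth.Agent.ProjMorph.isGen_one ⊤))

/-- The product of finitely many globally generated modules with affine loci. -/
theorem exists_tensor_with_affine_loci {n : ℕ} (L : Fin n → X.Modules) (σ : ∀ i, Γ(L i, ⊤))
    (hL : ∀ i, PicF.IsInvertible (L i)) (hgg : ∀ i, Curv2.IsGloballyGenerated (L i))
    (haff : ∀ i, IsAffineOpen (locus (σ i))) :
    ∃ M : X.Modules, PicF.IsInvertible M ∧ (∀ x, ∃ r : Γ(M, ⊤), x ∈ locus r) ∧
      ∀ i, ∀ x ∈ locus (σ i), ∃ r : Γ(M, ⊤), x ∈ locus r ∧ IsAffineOpen (locus r) := by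
  induction n with
  | zero =>
    exact ⟨Coh.structureModule X, ProjMorph.isInvertible_structureModule,
      fun x => ⟨one' ⊤, by rw [locus_one]; trivial⟩, fun i => i.elim0⟩
  | succ n ih =>
    obtain ⟨M, hM, hgen, hold⟩ := ih (fun i => L i.castSucc) (fun i => σ i.castSucc)
      (fun i => hL _) (fun i => hgg _) (fun i => haff _)
    refine ⟨CohB1.tensorMod M (L (Fin.last n)), isInvertible_tensorMod hM (hL _), fun x => ?_, ?_⟩
    · obtain ⟨r, hr⟩ := hgen x
      obtain ⟨t, ht⟩ := exists_genLocus_mem (hL (Fin.last n)) (hgg _) x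
      exact ⟨tmul r t, by rw [locus_tmul hM (hL _)]; exact ⟨hr, ht⟩⟩
    · refine Fin.lastCases (fun x hx => ?_) (fun i x hx => ?_)
      · obtain ⟨r, hr⟩ := hgen x
        refine ⟨tmul r (σ (Fin.last n)), ?_⟩
        rw [locus_tmul hM (hL _), ← genLocus_homOfSec r]
        refine ⟨⟨by rwa [genLocus_homOfSec], hx⟩, ?_⟩
        exact isAffineOpen_inf_genLocus hM _ (haff _)
      · obtain ⟨r, hr, hra⟩ := hold i x hx
        obtain ⟨t, ht⟩ := exists_genLocus_mem (hL (Fin.last n)) (hgg _) x
        refine ⟨tmul r t, ?_⟩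
        rw [locus_tmul hM (hL _), ← genLocus_homOfSec t, inf_comm]
        exact ⟨⟨by rwa [genLocus_homOfSec], hr⟩, isAffineOpen_inf_genLocus (hL _) _ hra⟩

/-- Enough globally generated modules with affine loci give an ample module. -/
theorem exists_ample [CompactSpace X]
    (h : ∀ x : X, ∃ (L : X.Modules) (s : Coh.structureModule X ⟶ L), PicF.IsInvertible L ∧
      Curv2.IsGloballyGenerated L ∧ x ∈ CohB1.genLocus L s ∧ IsAffineOpen (CohB1.genLocus L s)) :
    ∃ M : X.Modules, CohB1.IsAmple M := by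
  choose L s hL hgg hx haff using h
  obtain ⟨t, ht⟩ := isCompact_univ.elim_finite_subcover (fun x => (CohB1.genLocus (L x) (s x) : Set X))
    (fun x => (CohB1.genLocus (L x) (s x)).2) (fun x _ => Set.mem_iUnion.mpr ⟨x, hx x⟩)
  let e := t.equivFin.symm
  obtain ⟨M, hM, -, hloc⟩ := exists_tensor_with_affine_loci (fun i => L (e i))
    (fun i => sec (s (e i)) ⊤) (fun i => hL _) (fun i => hgg _)
    (fun i => by rw [← genLocus_eq_locus]; exact haff _)
  refine ⟨M, ProjMorph.isAmple_of_sections hM
    (ι := {r : Γ(M, ⊤) // IsAffineOpen (locus r)}) (fun r => r.1) (fun x _ => ?_) (fun r => r.2)⟩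
  obtain ⟨y, hy, hxy⟩ := Set.mem_iUnion₂.mp (ht (Set.mem_univ x))
  obtain ⟨r, hr, hra⟩ := hloc (t.equivFin ⟨y, hy⟩) x (by
    rw [← genLocus_eq_locus]
    have he : (e (t.equivFin ⟨y, hy⟩) : X) = y := congrArg Subtype.val (t.equivFin.symm_apply_apply _)
    rw [he]
    exact hxy)
  exact Opens.mem_iSup.mpr ⟨⟨r, hra⟩, hr⟩

end Groth.Agent.DimOneAmple
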