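import Groth.Agent.DimOneAmple.Main
import Groth.Agent.DimOneAmple.AmpleOfGG

/-!
# Noetherian separated schemes of dimension at most one have ample invertible modules
-/

set_option autoImplicit false
set_option linter.style.haveILetI false

universe u

open CategoryTheory AlgebraicGeometry TopologicalSpace

noncomputable section

namespace Groth.Agent.DimOneAmple

theorem exists_ample_of_dim_le_one (X : Scheme.{u}) [IsNoetherian X] [X.IsSeparated]
    (hdim : topologicalKrullDim X ≤ 1) : ∃ L : X.Modules, CohB1.IsAmple L := by
  refine exists_ample fun x => ?_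
  obtain ⟨U, hU, hxU, hgen⟩ := exists_isAffineOpen_genericPoints x
  obtain ⟨hfin, hd⟩ := finite_compl_and_dim hdim hgen
  obtain ⟨L, s, hL, hgg, hs⟩ := exists_module_genLocus_eq hU hfin (fun z _ => inferInstance) hd
    (fun y hy => hgen (mem_genericPoints_iff.mpr hy))
  exact ⟨L, s, hL, hgg, hs ▸ hxU, hs ▸ hU⟩

end Groth.Agent.DimOneAmple
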