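import Groth.Agent.DimOneAmple.Cartier
import Groth.Agent.DimIneq.Basic
import Mathlib.AlgebraicGeometry.Noetherian

/-!
# Affine opens with finite complement and their invertible modules
-/

set_option autoImplicit false
set_option linter.style.haveILetI false
set_option backward.isDefEq.respectTransparency.types false

universe u

open CategoryTheory AlgebraicGeometry TopologicalSpace Opposite IsLocalRing

noncomputable section

namespace Groth.Agent.DimOneAmple

variable {X : Scheme.{u}}

lemma ker_le_of_specializes {x y y' : X} (h : y' ⤳ y) (hy : y ⤳ x) :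
    RingHom.ker (specEv (h.trans hy)) ≤ RingHom.ker (specEv hy) := fun a ha => by
  by_contra hne
  have hu : IsUnit (X.presheaf.stalkSpecializes hy a) := by
    by_contra hn
    exact hne ((IsLocalRing.residue_eq_zero_iff _).mpr hn)
  have h2 := (hu.map (X.presheaf.stalkSpecializes h).hom).map (X.residue y').hom
  have e : specEv (h.trans hy) a =
      X.residue y' (X.presheaf.stalkSpecializes h (X.presheaf.stalkSpecializes hy a)) := by
    rw [specEv, ← TopCat.Presheaf.stalkSpecializes_comp X.presheaf h hy]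
    rfl
  exact h2.ne_zero (e.symm.trans ha)

lemma eq_of_ker_eq {x y y' : X} (hy : y ⤳ x) (hy' : y' ⤳ x)
    (h : RingHom.ker (specEv hy) = RingHom.ker (specEv hy')) : y = y' := by
  obtain ⟨V, hV, hxV, -⟩ := exists_isAffineOpen_mem_and_subset (X := X) (x := x) (U := ⊤) trivial
  have hiff : ∀ s : Γ(X, V), y ∈ X.basicOpen s ↔ y' ∈ X.basicOpen s := fun s => by
    have h1 := SetLike.ext_iff.mp h (X.presheaf.germ V x hxV s)
    rw [RingHom.mem_ker, RingHom.mem_ker, specEv_germ, specEv_germ,
      Scheme.evaluation_eq_zero_iff_notMem_basicOpen,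
      Scheme.evaluation_eq_zero_iff_notMem_basicOpen] at h1
    exact not_iff_not.mp h1
  refine Inseparable.eq (inseparable_iff_forall_isOpen.mpr fun O hO => ⟨fun hyO => ?_, fun hyO => ?_⟩)
  · obtain ⟨s, hs, hys⟩ := hV.exists_basicOpen_le (V := ⟨O, hO⟩) ⟨y, hyO⟩ (hy.mem_open V.2 hxV)
    exact hs ((hiff s).mp hys)
  · obtain ⟨s, hs, hys⟩ := hV.exists_basicOpen_le (V := ⟨O, hO⟩) ⟨y', hyO⟩ (hy'.mem_open V.2 hxV)
    exact hs ((hiff s).mpr hys)

lemma ker_mem_minimalPrimes {x y : X} (hy : y ⤳ x) (hne : y ≠ x)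
    (hdim : ringKrullDim (X.presheaf.stalk x) ≤ 1) :
    RingHom.ker (specEv hy) ∈ minimalPrimes (X.presheaf.stalk x) := by
  haveI := RingHom.ker_isPrime (specEv hy)
  refine (OneDim.mem_minimalPrimes_or_eq_maximalIdeal hdim _).resolve_right fun e => hne ?_
  exact eq_of_ker_eq hy (specializes_refl x) (e.trans (ker_specEv_self x).symm)

/-- A proper generization of a point with local ring of dimension at most one is maximal. -/
lemma maximal_of_specializes {x y : X} (hy : y ⤳ x) (hne : y ≠ x)
    (hdim : ringKrullDim (X.presheaf.stalk x) ≤ 1) {y' : X} (h : y' ⤳ y) : y' = y := by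
  haveI := RingHom.ker_isPrime (specEv (h.trans hy))
  exact eq_of_ker_eq (h.trans hy) hy (le_antisymm (ker_le_of_specializes h hy)
    ((ker_mem_minimalPrimes hy hne hdim).2 ⟨inferInstance, bot_le⟩ (ker_le_of_specializes h hy)))

/-- An affine open containing all maximal points and with finite complement by points of height one is
the locus of a section of a globally generated invertible module. -/
theorem exists_module_genLocus_eq [X.IsSeparated] {U : X.Opens} (hU : IsAffineOpen U)
    (hD : ((U : Set X)ᶜ).Finite)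
    (hnoeth : ∀ x, x ∉ U → IsNoetherianRing (X.presheaf.stalk x))
    (hdim : ∀ x, x ∉ U → ringKrullDim (X.presheaf.stalk x) = 1)
    (hgen : ∀ y : X, (∀ y', y' ⤳ y → y' = y) → y ∈ U) :
    ∃ (L : X.Modules) (s : Coh.structureModule X ⟶ L), PicF.IsInvertible L ∧
      Curv2.IsGloballyGenerated L ∧ CohB1.genLocus L s = U := by
  have hcl : ∀ x, x ∉ U → IsClosed ({x} : Set X) := fun x hx => by
    refine closure_eq_iff_isClosed.mp (Set.Subset.antisymm (fun z hz => ?_) subset_closure)
    have hxz : x ⤳ z := specializes_iff_mem_closure.mpr hz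
    by_contra hne
    have hz' : z ∉ U := fun hzU => hx (hxz.mem_open U.2 hzU)
    exact hx (hgen x fun y' hy' =>
      maximal_of_specializes hxz (Ne.symm hne) (hdim z hz').le hy')
  let S : Set X := ⋃ x ∈ (U : Set X)ᶜ, {y | y ⤳ x ∧ y ≠ x}
  have hSfin : S.Finite := hD.biUnion fun x hx => by
    classical
    haveI := hnoeth x hx
    refine Set.Finite.of_injOn (f := fun y => if h : y ⤳ x then RingHom.ker (specEv h) else ⊤)
      (t := minimalPrimes (X.presheaf.stalk x)) (fun y hy => ?_) (fun y hy y' hy' he => ?_)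
      (minimalPrimes.finite_of_isNoetherianRing _)
    · simp only [dif_pos hy.1]
      exact ker_mem_minimalPrimes hy.1 hy.2 (hdim x hx).le
    · simp only [dif_pos hy.1, dif_pos hy'.1] at he
      exact eq_of_ker_eq hy.1 hy'.1 he
  have hmax : ∀ y ∈ S, ∀ y', y' ⤳ y → y' = y := fun y hy y' h => by
    obtain ⟨x, hx, hyx, hne⟩ := Set.mem_iUnion₂.mp hy
    exact maximal_of_specializes hyx hne (hdim x hx).le h
  obtain ⟨f, hf⟩ := exists_pole hU hD hcl hnoeth hdim hSfin.toFinset
    (fun η hη => hgen η (hmax η (hSfin.mem_toFinset.mp hη)))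
    (fun η _ η' hη' h => hmax η' (hSfin.mem_toFinset.mp hη') η h)
    (fun x hx y hy hne => hSfin.mem_toFinset.mpr (Set.mem_iUnion₂.mpr ⟨x, hx, hy, hne⟩))
  exact exists_module_of_pole f hf

section Noetherian

variable [IsNoetherian X]

omit [AlgebraicGeometry.IsNoetherian X] in
/-- Every point has a maximal generization. -/
lemma exists_maximal_specializes (z : X) :
    ∃ g : X, g ⤳ z ∧ g ∈ genericPoints X := by
  refine ⟨(genericPoints.ofComponent ⟨_, irreducibleComponent_mem_irreducibleComponents z⟩).1,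
    specializes_iff_mem_closure.mpr ?_, Subtype.mem _⟩
  rw [genericPoints.isGenericPoint_ofComponent]
  exact mem_irreducibleComponent

omit [AlgebraicGeometry.IsNoetherian X] in
lemma mem_genericPoints_iff {y : X} :
    y ∈ genericPoints X ↔ ∀ y', y' ⤳ y → y' = y := by
  refine ⟨fun hy y' h => ?_, fun h => ?_⟩
  · have h1 : closure ({y} : Set X) ⊆ closure {y'} :=
      closure_minimal (Set.singleton_subset_iff.mpr (specializes_iff_mem_closure.mp h)) isClosed_closure
    have h2 := hy.2 (isIrreducible_singleton.closure) h1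
    exact ((specializes_iff_mem_closure.mpr (h2 (subset_closure rfl))).antisymm h).eq.symm
  · obtain ⟨g, hg, hgg⟩ := exists_maximal_specializes y
    exact h g hg ▸ hgg

lemma finite_genericPoints : (genericPoints X).Finite :=
  genericPoints.finite NoetherianSpace.finite_irreducibleComponents

/-- A point lies in an affine open containing all maximal points. -/
theorem exists_isAffineOpen_genericPoints (x : X) :
    ∃ U : X.Opens, IsAffineOpen U ∧ x ∈ U ∧ genericPoints X ⊆ U := by
  classical
  obtain ⟨V, hV, hxV, -⟩ := exists_isAffineOpen_mem_and_subset (X := X) (x := x) (U := ⊤) trivial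
  let S := {η : X | η ∈ genericPoints X ∧ η ∉ V}
  have hS : S.Finite := finite_genericPoints.subset fun η h => h.1
  have hO : ∀ η ∈ S, ∃ W : X.Opens, IsAffineOpen W ∧ η ∈ W ∧ ∀ z ∈ W, η ⤳ z ∧
      ∀ η' ∈ genericPoints X, η' ⤳ z → η' = η := fun η hη => by
    have hc : IsClosed (⋃ η' ∈ genericPoints X \ {η}, closure ({η'} : Set X)) :=
      (finite_genericPoints.sdiff).isClosed_biUnion fun _ _ => isClosed_closure
    have hηc : η ∉ ⋃ η' ∈ genericPoints X \ {η}, closure ({η'} : Set X) := fun h => by
      obtain ⟨η', hη', h'⟩ := Set.mem_iUnion₂.mp h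
      exact hη'.2 (mem_genericPoints_iff.mp hη.1 η' (specializes_iff_mem_closure.mpr h'))
    obtain ⟨W, hW, hηW, hWle⟩ :=
      exists_isAffineOpen_mem_and_subset (X := X) (x := η) (U := ⟨_, hc.isOpen_compl⟩) hηc
    refine ⟨W, hW, hηW, fun z hz => ?_⟩
    have key : ∀ η' ∈ genericPoints X, η' ⤳ z → η' = η := fun η' hη' h => by
      by_contra hne
      exact hWle hz (Set.mem_iUnion₂.mpr ⟨η', ⟨hη', hne⟩, specializes_iff_mem_closure.mp h⟩)
    obtain ⟨g, hg, hgg⟩ := exists_maximal_specializes z
    exact ⟨key g hgg hg ▸ hg, key⟩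
  choose! W hW hηW hWz using hO
  haveI := hS.to_subtype
  let U' : Option S → X.Opens := fun i => i.elim V fun η => W η
  have hdis : Pairwise (Function.onFun Disjoint U') := by
    have h1 : ∀ η : S, Disjoint V (W η) := fun η => disjoint_iff_inf_le.mpr fun z hz =>
      η.2.2 ((hWz η.1 η.2 z hz.2).1.mem_open V.2 hz.1)
    rintro (_ | η) (_ | η') hne
    · exact absurd rfl hne
    · exact h1 η'
    · exact (h1 η).symm
    · refine disjoint_iff_inf_le.mpr fun z hz => hne (congrArg some (Subtype.ext ?_))
      exact (hWz η'.1 η'.2 z hz.2).2 η.1 η.2.1 (hWz η.1 η.2 z hz.1).1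
  refine ⟨⨆ i, U' i, IsAffineOpen.iSup_of_disjoint (by rintro (_ | η); exacts [hV, hW η.1 η.2]) hdis,
    Opens.mem_iSup.mpr ⟨none, hxV⟩, fun η hη => ?_⟩
  by_cases h : η ∈ V
  · exact Opens.mem_iSup.mpr ⟨none, h⟩
  · exact Opens.mem_iSup.mpr ⟨some ⟨η, hη, h⟩, hηW η ⟨hη, h⟩⟩

lemma finite_of_isClosed_singletons {Z : Set X} (hZ : IsClosed Z)
    (h : ∀ z ∈ Z, IsClosed ({z} : Set X)) : Z.Finite := by
  obtain ⟨S, hSf, hSc, hSi, rfl⟩ := NoetherianSpace.exists_finite_set_isClosed_irreducible hZ
  refine hSf.sUnion fun T hT => ?_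
  obtain ⟨g, hg⟩ := QuasiSober.sober (hSi T hT) (hSc T hT)
  refine Set.Subsingleton.finite ?_
  rw [← hg.def, (h g ⟨T, hT, hg.mem⟩).closure_eq]
  exact Set.subsingleton_singleton

/-- In dimension at most one, an open containing the maximal points has finite complement, of
points of height one. -/
theorem finite_compl_and_dim (hdim : topologicalKrullDim X ≤ 1) {U : X.Opens}
    (hU : genericPoints X ⊆ U) :
    ((U : Set X)ᶜ).Finite ∧ ∀ z, z ∉ U → ringKrullDim (X.presheaf.stalk z) = 1 := by
  have hle : ∀ z : X, ringKrullDim (X.presheaf.stalk z) ≤ 1 := fun z => by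
    rw [DimIneq.topologicalKrullDim_eq_iSup_stalk] at hdim
    exact (le_iSup (fun z : X => ringKrullDim (X.presheaf.stalk z)) z).trans hdim
  refine ⟨finite_of_isClosed_singletons U.2.isClosed_compl fun z hz => ?_, fun z hz => ?_⟩
  · refine closure_eq_iff_isClosed.mp (Set.Subset.antisymm (fun w hw => ?_) subset_closure)
    by_contra hne
    refine hz (hU (mem_genericPoints_iff.mpr fun y' hy' => ?_))
    exact maximal_of_specializes (specializes_iff_mem_closure.mpr hw) (Ne.symm hne) (hle w) hy'
  · obtain ⟨g, hg, hgg⟩ := exists_maximal_specializes z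
    refine le_antisymm (hle z) (not_lt.mp fun hlt => ?_)
    haveI := RingHom.ker_isPrime (specEv hg)
    haveI : Ring.KrullDimLE 0 (X.presheaf.stalk z) := Ring.krullDimLE_iff.mpr (by
      revert hlt
      induction ringKrullDim (X.presheaf.stalk z) using WithBot.recBotCoe with
      | bot => exact fun _ => bot_le
      | coe n =>
        intro hlt
        exact WithBot.coe_le_coe.mpr (Order.lt_one_iff.mp (WithBot.coe_lt_coe.mp hlt)).le)
    have := eq_of_ker_eq hg (specializes_refl z)
      ((Ring.KrullDimLE.eq_maximalIdeal_of_isPrime _).trans (ker_specEv_self z).symm)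
    exact hz (this ▸ hU hgg)

end Noetherian

end Groth.Agent.DimOneAmple
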