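import Groth.Agent.VarDim.Curve
import Groth.Agent.OneDim.Basic
import Mathlib.RingTheory.Localization.Integral
import Mathlib.RingTheory.Artinian.Module
import Mathlib.RingTheory.HopkinsLevitzki
import Mathlib.RingTheory.IntegralClosure.IntegrallyClosed

/-!
# Local rings of relative normalisations at points of height one
-/

set_option autoImplicit false
set_option linter.style.haveILetI false

open IsLocalRing

namespace Groth.Agent.DimOneAmple

/-- A reduced zero-dimensional Noetherian ring without nontrivial idempotents is a field. -/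
lemma isField_of_idempotent {S : Type*} [CommRing S] [IsNoetherianRing S] [Nontrivial S] [IsReduced S]
    (hmax : ∀ Q : Ideal S, Q.IsPrime → Q.IsMaximal)
    (he : ∀ e : S, IsIdempotentElem e → e = 0 ∨ e = 1) : IsField S := by
  haveI : Ring.KrullDimLE 0 S := Ring.krullDimLE_zero_iff.mpr hmax
  haveI : IsArtinianRing S := isArtinianRing_iff_isNoetherianRing_krullDimLE_zero.mpr ⟨‹_›, ‹_›⟩
  refine ⟨exists_pair_ne S, mul_comm, fun {a} ha => ?_⟩
  obtain ⟨n, hn⟩ := IsArtinian.exists_pow_succ_smul_dvd a (1 : S)
  obtain ⟨w, hw⟩ := hn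
  have hw' : a ^ (n + 1) * w = a ^ n := by simpa [smul_eq_mul] using hw
  have h0 : a * (1 - a * w) = 0 := by
    refine IsReduced.eq_zero _ ⟨n + 1, ?_⟩
    rw [mul_pow, pow_succ' (1 - a * w), ← mul_assoc]
    have : a ^ (n + 1) * (1 - a * w) = a * (a ^ n - a ^ (n + 1) * w) := by ring
    rw [this, hw', sub_self, mul_zero, zero_mul]
  have haw : a * a * w = a := by linear_combination -h0
  rcases he (a * w) (by rw [IsIdempotentElem]; linear_combination w * haw) with h | h
  · exact absurd (by rw [← haw, mul_assoc, h, mul_zero]) ha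
  · exact ⟨w, h⟩

variable {A B : Type*} [CommRing A] [CommRing B] [Algebra A B]

/-- At a point of height one where `r` vanishes, a ring integrally closed in its reduced
localisation at `r` is a discrete valuation ring. -/
theorem isDiscreteValuationRing_of_integrallyClosedIn_away [IsNoetherianRing A] [IsReduced B]
    (r : A) [IsLocalization.Away r B] [IsIntegrallyClosedIn A B] (q : Ideal A) [q.IsPrime]
    (hr : r ∈ q) (hdim : ringKrullDim (Localization.AtPrime q) = 1) :
    ∃ _ : IsDomain (Localization.AtPrime q), IsDiscreteValuationRing (Localization.AtPrime q) := by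
  set L := Localization.AtPrime q
  let S := Localization (Algebra.algebraMapSubmonoid B q.primeCompl)
  letI : Algebra L S := localizationAlgebra q.primeCompl B
  haveI : IsScalarTower A L S := IsScalarTower.of_algebraMap_eq fun a => by
    rw [RingHom.algebraMap_toAlgebra, IsLocalization.map_eq, ← IsScalarTower.algebraMap_apply]
  have hinjAB : Function.Injective (algebraMap A B) := IsIntegralClosure.algebraMap_injective A A B
  have hinj : Function.Injective (algebraMap L S) := by
    rw [injective_iff_map_eq_zero]
    intro z hz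
    obtain ⟨a, m, rfl⟩ := IsLocalization.exists_mk'_eq q.primeCompl z
    have h1 : algebraMap L S (algebraMap A L a) = 0 := by
      rw [← IsLocalization.mk'_spec L a m, map_mul, hz, zero_mul]
    rw [← IsScalarTower.algebraMap_apply, IsScalarTower.algebraMap_apply A B S,
      IsLocalization.map_eq_zero_iff (Algebra.algebraMapSubmonoid B q.primeCompl)] at h1
    obtain ⟨⟨_, s, hs, rfl⟩, h2⟩ := h1
    change algebraMap A B s * algebraMap A B a = 0 at h2
    rw [← map_mul, ← map_zero (algebraMap A B)] at h2
    refine (IsLocalization.mk'_eq_zero_iff a m).mpr ⟨⟨s, hs⟩, hinjAB h2⟩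
  haveI : IsNoetherianRing B := IsLocalization.isNoetherianRing (Submonoid.powers r) B ‹_›
  haveI : IsNoetherianRing S := IsLocalization.isNoetherianRing
    (Algebra.algebraMapSubmonoid B q.primeCompl) S ‹_›
  haveI : IsReduced L := isReduced_of_injective (algebraMap L S) hinj
  haveI : Nontrivial S := hinj.nontrivial
  have hmax : ∀ Q : Ideal S, Q.IsPrime → Q.IsMaximal := by
    intro Q hQ
    obtain ⟨M, hM, hQM⟩ := Q.exists_le_maximal hQ.ne_top
    have key : ∀ (P : Ideal S), P.IsPrime → r ∉ P.comap (algebraMap A S) := by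
      intro P hP h
      refine hP.ne_top (Ideal.eq_top_of_isUnit_mem _ h ?_)
      rw [IsScalarTower.algebraMap_apply A B S]
      exact (IsLocalization.Away.algebraMap_isUnit r).map _
    have hle : ∀ P : Ideal S, P.IsPrime → P.comap (algebraMap L S) ∈ minimalPrimes L := fun P hP => by
      refine (OneDim.mem_minimalPrimes_or_eq_maximalIdeal hdim.le _).resolve_right fun e => key P hP ?_
      have : algebraMap A L r ∈ P.comap (algebraMap L S) :=
        e ▸ (IsLocalization.AtPrime.to_map_mem_maximal_iff L q r).mpr hr
      rw [Ideal.mem_comap, ← IsScalarTower.algebraMap_apply] at this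
      exact this
    suffices M = Q from this ▸ hM
    have h1 : M.comap (algebraMap L S) = Q.comap (algebraMap L S) :=
      le_antisymm ((hle M hM.isPrime).2 ⟨Ideal.IsPrime.comap _, bot_le⟩ (Ideal.comap_mono hQM))
        (Ideal.comap_mono hQM)
    have h2 : (M.comap (algebraMap B S)).comap (algebraMap A B) =
        (Q.comap (algebraMap B S)).comap (algebraMap A B) := by
      rw [Ideal.comap_comap, Ideal.comap_comap, ← IsScalarTower.algebraMap_eq,
        IsScalarTower.algebraMap_eq A L S, ← Ideal.comap_comap, ← Ideal.comap_comap, h1]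
    have h3 : M.comap (algebraMap B S) = Q.comap (algebraMap B S) := by
      rw [← IsLocalization.map_under (Submonoid.powers r) B (M.comap (algebraMap B S)),
        ← IsLocalization.map_under (Submonoid.powers r) B (Q.comap (algebraMap B S))]
      exact congrArg (Ideal.map (algebraMap A B)) h2
    rw [← IsLocalization.map_under (Algebra.algebraMapSubmonoid B q.primeCompl) S M,
      ← IsLocalization.map_under (Algebra.algebraMapSubmonoid B q.primeCompl) S Q]
    exact congrArg (Ideal.map (algebraMap B S)) h3
  -- integral elements come from `L`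
  have hic : ∀ z : S, IsIntegral L z → ∃ y, algebraMap L S y = z := by
    intro z hz
    obtain ⟨⟨x, _, m₁, hm₁, rfl⟩, e⟩ :=
      IsLocalization.surj (Algebra.algebraMapSubmonoid B q.primeCompl) z
    simp only [← IsScalarTower.algebraMap_apply] at e
    obtain ⟨⟨m₂, hm₂⟩, hm₂s⟩ := IsIntegral.exists_multiple_integral_of_isLocalization q.primeCompl _ hz
    simp only [Submonoid.smul_def, Algebra.smul_def] at hm₂s
    obtain ⟨m₃, hm₃, hm₃s⟩ := IsLocalization.exists_isIntegral_smul_of_isIntegral_map (Sₘ := S)
      q.primeCompl (x := m₂ • x) <| by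
        simp only [Algebra.smul_def, map_mul, ← IsScalarTower.algebraMap_apply, ← e, ← mul_assoc]
        exact hm₂s.mul isIntegral_algebraMap
    obtain ⟨a, ha⟩ := IsIntegrallyClosedIn.isIntegral_iff.mp hm₃s
    refine ⟨IsLocalization.mk' L a ⟨m₁ * (m₂ * m₃), mul_mem hm₁ (mul_mem hm₂ hm₃)⟩, ?_⟩
    have h1 := congrArg (algebraMap L S)
      (IsLocalization.mk'_spec L a ⟨m₁ * (m₂ * m₃), mul_mem hm₁ (mul_mem hm₂ hm₃)⟩)
    rw [map_mul, ← IsScalarTower.algebraMap_apply, ← IsScalarTower.algebraMap_apply,
      IsScalarTower.algebraMap_apply A B S a, ha] at h1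
    have hu : IsUnit (algebraMap A S (m₁ * (m₂ * m₃))) := by
      rw [IsScalarTower.algebraMap_apply A L S]
      exact ((IsLocalization.map_units L (⟨_, mul_mem hm₁ (mul_mem hm₂ hm₃)⟩ : q.primeCompl))).map _
    refine hu.mul_left_inj.mp (h1.trans ?_)
    simp only [Algebra.smul_def, map_mul, ← IsScalarTower.algebraMap_apply, ← e]
    ring
  have hS : IsField S := isField_of_idempotent hmax fun e he => by
    obtain ⟨y, rfl⟩ := hic e ⟨Polynomial.X ^ 2 - Polynomial.X,
      Polynomial.monic_X_pow_sub (Polynomial.degree_X_le.trans_lt (by norm_num)), by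
        simp [pow_two, he.eq]⟩
    have hy : IsIdempotentElem y := hinj (by rw [map_mul, he.eq])
    rcases IsLocalRing.isUnit_or_isUnit_one_sub_self y with h | h
    · right; rw [(IsIdempotentElem.iff_eq_one_of_isUnit h).mp hy, map_one]
    · left
      have h0 : (1 - y) * y = 0 := by rw [sub_mul, one_mul, hy.eq, sub_self]
      rw [(h.mul_right_eq_zero).mp h0, map_zero]
  letI := hS.toField
  haveI : IsDomain L := hinj.isDomain (algebraMap L S)
  haveI : FaithfulSMul L S := (faithfulSMul_iff_algebraMap_injective L S).mpr hinj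
  haveI : IsFractionRing L S := IsFractionRing.of_field L S fun z => by
    obtain ⟨⟨x, _, m, hm, rfl⟩, e⟩ :=
      IsLocalization.surj (Algebra.algebraMapSubmonoid B q.primeCompl) z
    obtain ⟨n, a, ha⟩ := IsLocalization.Away.surj r x
    refine ⟨algebraMap A L a, algebraMap A L (m * r ^ n), ?_⟩
    simp only [← IsScalarTower.algebraMap_apply] at e ⊢
    have hne : algebraMap A S (m * r ^ n) ≠ 0 := by
      refine IsUnit.ne_zero ?_
      rw [IsScalarTower.algebraMap_apply A B S, map_mul, map_mul, map_pow, map_pow]
      exact (IsLocalization.map_units S (⟨_, m, hm, rfl⟩ : Algebra.algebraMapSubmonoid B q.primeCompl)).mul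
        (((IsLocalization.Away.algebraMap_isUnit r).map _).pow n)
    rw [eq_div_iff hne, map_mul, ← mul_assoc, e, map_pow, IsScalarTower.algebraMap_apply A B S r,
      ← map_pow (algebraMap B S), ← map_mul, ha, ← IsScalarTower.algebraMap_apply]
  haveI : IsIntegrallyClosed L := (isIntegrallyClosed_iff S).mpr fun {x} hx => hic x hx
  haveI : IsNoetherianRing L := IsLocalization.isNoetherianRing q.primeCompl L ‹_›
  exact ⟨inferInstance, VarDim.isDiscreteValuationRing_of_ringKrullDim_eq_one L hdim⟩

end Groth.Agent.DimOneAmple
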