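import Groth.Agent.DimOneAmple.Completion
import Groth.Agent.DimOneAmple.DVR
import Groth.Agent.S7616
import Groth.Agent.NormNormal.Rel

/-!
# Projective completions regular at the boundary
-/

set_option autoImplicit false
set_option linter.style.haveILetI false
set_option backward.isDefEq.respectTransparency.types false

universe u

open CategoryTheory CategoryTheory.Limits AlgebraicGeometry TopologicalSpace

noncomputable section

namespace Groth.Agent.DimOneAmple

/-- An open immersion restricted over an affine open meeting its image in a basic open. -/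
lemma isLocalization_appLE_of_basicOpen {X Y : Scheme.{u}} (f : X ⟶ Y) [IsOpenImmersion f]
    {W : Y.Opens} (hW : IsAffineOpen W) (r : Γ(Y, W)) (hr : Y.basicOpen r = W ⊓ f.opensRange)
    {O : X.Opens} (hO : O ≤ f ⁻¹ᵁ W) (hO' : f ⁻¹ᵁ W ≤ O) :
    letI := (f.appLE W O hO).hom.toAlgebra
    IsLocalization.Away r Γ(X, O) := by
  obtain rfl : O = f ⁻¹ᵁ W := le_antisymm hO hO'
  letI := (f.appLE W (f ⁻¹ᵁ W) hO).hom.toAlgebra
  letI a' : Algebra Γ(Y, W) Γ(Y, W ⊓ f.opensRange) :=
    (Y.presheaf.map (homOfLE (inf_le_left : W ⊓ f.opensRange ≤ W)).op).hom.toAlgebra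
  haveI : IsLocalization.Away r Γ(Y, W ⊓ f.opensRange) :=
    hW.isLocalization_of_eq_basicOpen r (homOfLE inf_le_left) hr.symm
  have he : f ⁻¹ᵁ W ≤ f ⁻¹ᵁ (W ⊓ f.opensRange) := fun x hx => ⟨hx, ⟨x, rfl⟩⟩
  have hiso : IsIso (f.appLE (W ⊓ f.opensRange) (f ⁻¹ᵁ W) he) := by
    haveI : IsIso (f.app (W ⊓ f.opensRange)) := f.isIso_app _ inf_le_right
    rw [Scheme.Hom.appLE]
    haveI : IsIso (homOfLE he).op := by
      have h2 : f ⁻¹ᵁ (W ⊓ f.opensRange) ≤ f ⁻¹ᵁ W := fun x hx => hx.1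
      exact ⟨(homOfLE h2).op, Subsingleton.elim _ _, Subsingleton.elim _ _⟩
    infer_instance
  refine IsLocalization.isLocalization_of_algEquiv (Submonoid.powers r)
    (S := Γ(Y, W ⊓ f.opensRange))
    (AlgEquiv.ofRingEquiv (f := (@asIso _ _ _ _ _ hiso).commRingCatIsoToRingEquiv) fun a => ?_)
  change (Y.presheaf.map (homOfLE _).op ≫ f.appLE _ _ _) a = f.appLE W _ hO a
  rw [Scheme.Hom.map_appLE]

variable {k : Type u} [Field k]

local notation "Sk" => Spec (CommRingCat.of k)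

theorem exists_completion_reduced (X : Scheme.{u}) [X.Over Sk] [IsReduced X] [IsSeparated (X ↘ Sk)]
    [LocallyOfFiniteType (X ↘ Sk)] [QuasiCompact (X ↘ Sk)] (hdim : topologicalKrullDim X ≤ 1) :
    ∃ (d : ℕ) (Y : Scheme.{u}) (c : Y ⟶ CohB1.ProjSpace d k) (j : X ⟶ Y), IsClosedImmersion c ∧
      IsOpenImmersion j ∧ j ≫ c ≫ CohB1.ProjSpace.toSpec d k = X ↘ Sk ∧
      Dense (Set.range j.base) ∧ IsSchemeTheoreticallyDominant j ∧ topologicalKrullDim Y ≤ 1 ∧
      (Set.range j.base)ᶜ.Finite ∧ ∀ y ∈ (Set.range j.base)ᶜ, IsClosed ({y} : Set Y) ∧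
        ∃ _ : IsDomain (Y.presheaf.stalk y), IsDiscreteValuationRing (Y.presheaf.stalk y) := by
  obtain ⟨d, Y, c, j, hc, hj, hw, hdense, hsd, hY, hfin, hcl⟩ := exists_completion (k := k) X hdim
  haveI := hc
  haveI := hj
  haveI := hsd
  haveI := ProjProper.Basic.isProper_toSpec d k
  letI : Y.Over Sk := ⟨c ≫ CohB1.ProjSpace.toSpec d k⟩
  haveI : IsProper (Y ↘ Sk) := inferInstanceAs (IsProper (c ≫ CohB1.ProjSpace.toSpec d k))
  haveI : j.IsOver Sk := ⟨hw⟩
  haveI : QuasiCompact (j ≫ (Y ↘ Sk)) := by rw [CategoryTheory.comp_over j]; infer_instance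
  haveI : QuasiCompact j := .of_comp j (Y ↘ Sk)
  haveI : IsLocallyNoetherian Y := LocallyOfFiniteType.isLocallyNoetherian (Y ↘ Sk)
  haveI : CompactSpace Y := QuasiCompact.compactSpace_of_compactSpace (Y ↘ Sk)
  haveI : IsNoetherian Y := {}
  haveI : IsReduced Y := IsSchemeTheoreticallyDominant.isReduced j
  haveI : IsFinite j.fromNormalization := S7616.result k Y X j
  let Y' := j.normalization
  let ν : Y' ⟶ Y := j.fromNormalization
  let j' : X ⟶ Y' := j.toNormalization
  letI : Y'.Over Sk := ⟨ν ≫ (Y ↘ Sk)⟩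
  haveI : IsProper (Y' ↘ Sk) := inferInstanceAs (IsProper (j.fromNormalization ≫ (Y ↘ Sk)))
  haveI : IsLocallyNoetherian Y' := LocallyOfFiniteType.isLocallyNoetherian (Y' ↘ Sk)
  haveI : CompactSpace Y' := QuasiCompact.compactSpace_of_compactSpace (Y' ↘ Sk)
  haveI : IsNoetherian Y' := {}
  -- the normalisation is the source over its image
  obtain ⟨φ, hφ⟩ : ∃ φ : X ≅ pullback ν j.opensRange.ι, φ.hom ≫ pullback.fst ν j.opensRange.ι = j' := by
    let v : X ⟶ (j.opensRange : Scheme.{u}) := j.isoOpensRange.hom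
    have hP : IsPullback (𝟙 X) v j j.opensRange.ι :=
      ⟨⟨by simp [v]⟩, ⟨PullbackCone.IsLimit.mk _ (fun s => s.fst) (fun s => by simp)
        (fun s => by
          rw [← cancel_mono j.opensRange.ι, Category.assoc, Scheme.Hom.isoOpensRange_hom_ι]
          exact s.condition)
        (fun s m h1 _ => by simpa using h1)⟩⟩
    have hint : IsIntegralHom (pullback.snd j j.opensRange.ι) := by
      rw [← hP.isoPullback_inv_snd]; infer_instance
    refine ⟨hP.isoPullback ≪≫ asIso (pullback.snd j j.opensRange.ι).toNormalization ≪≫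
      asIso (j.normalizationPullback j.opensRange.ι), ?_⟩
    simp [j', ν]
  haveI : IsOpenImmersion j' := by rw [← hφ]; infer_instance
  have hrange : j'.opensRange = ν ⁻¹ᵁ j.opensRange := by
    ext x
    change x ∈ Set.range j' ↔ ν x ∈ j.opensRange
    rw [← hφ, Scheme.Hom.comp_base, TopCat.coe_comp, Set.range_comp,
      Set.range_eq_univ.mpr φ.hom.surjective, Set.image_univ,
      IsOpenImmersion.range_pullbackFst, Scheme.Opens.opensRange_ι]
    rfl
  have hsd' : IsSchemeTheoreticallyDominant j' := ⟨j.ker_toNormalization⟩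
  have hdense' : Dense (Set.range j'.base) := j'.denseRange
  have hY' : topologicalKrullDim Y' ≤ 1 := by
    refine dim_le_one_of_dense (k := k) (U := j'.opensRange) hdense' ?_
    refine le_of_eq_of_le ?_ hdim
    exact (IsHomeomorph.topologicalKrullDim_eq _
      j'.isOpenEmbedding.isEmbedding.toHomeomorph.isHomeomorph).symm
  have hgen' : genericPoints Y' ⊆ (j'.opensRange : Set Y') := genericPoints_subset_of_dense hdense'
  obtain ⟨hfin', hdim'⟩ := finite_compl_and_dim hY' hgen'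
  obtain ⟨-, hdimY⟩ := finite_compl_and_dim hY (genericPoints_subset_of_dense (U := j.opensRange) hdense)
  obtain ⟨n, c', hc', hw'⟩ := exists_closedImmersion (k := k) Y' hY'
  refine ⟨n, Y', c', j', hc', inferInstance, ?_, hdense', hsd', hY', hfin',
    fun y' hy' => ⟨isClosed_singleton_of_dim_le_one hY' fun h => hy' (hgen' h), ?_⟩⟩
  · rw [hw']
    change j' ≫ ν ≫ (Y ↘ Sk) = _
    rw [Scheme.Hom.toNormalization_fromNormalization_assoc, CategoryTheory.comp_over j]
  have hy : ν y' ∉ j.opensRange := fun h => hy' (hrange.ge h : y' ∈ j'.opensRange)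
  haveI : IsNoetherianRing (Y.presheaf.stalk (ν y')) := inferInstance
  obtain ⟨V₀, hy₀, hV₀⟩ := exists_avoid (U := j.opensRange) hfin (fun x hx => hcl x hx) (ν y')
  obtain ⟨V, r, hV, hyV, -, hr⟩ := exists_local_eq (U := j.opensRange)
    (fun V _ => NoetherianSpace.isCompact _) hy (hdimY _ hy) hy₀ hV₀
  have hW : IsAffineOpen (ν ⁻¹ᵁ V) := hV.preimage ν
  have hle : j ⁻¹ᵁ V ≤ j' ⁻¹ᵁ ν ⁻¹ᵁ V := by
    rw [← Scheme.Hom.comp_preimage, j.toNormalization_fromNormalization]
  letI := (j'.appLE (ν ⁻¹ᵁ V) (j ⁻¹ᵁ V) hle).hom.toAlgebra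
  haveI : IsIntegrallyClosedIn Γ(Y', ν ⁻¹ᵁ V) Γ(X, j ⁻¹ᵁ V) :=
    NormNormal.isIntegrallyClosedIn_sections j hV hle
  have hr' : Y'.basicOpen (ν.app V r) = ν ⁻¹ᵁ V ⊓ j'.opensRange := by
    rw [← Scheme.preimage_basicOpen, hr, Scheme.Hom.preimage_inf, hrange]
  haveI : IsLocalization.Away (ν.app V r) Γ(X, j ⁻¹ᵁ V) :=
    isLocalization_appLE_of_basicOpen j' hW _ hr' hle
      (by rw [← Scheme.Hom.comp_preimage, j.toNormalization_fromNormalization])
  haveI : IsNoetherianRing Γ(Y', ν ⁻¹ᵁ V) := IsLocallyNoetherian.component_noetherian ⟨_, hW⟩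
  have hyW : y' ∈ ν ⁻¹ᵁ V := hyV
  set q := (hW.primeIdealOf ⟨y', hyW⟩).asIdeal
  letI := TopCat.Presheaf.algebra_section_stalk Y'.presheaf ⟨y', hyW⟩
  haveI := hW.isLocalization_stalk ⟨y', hyW⟩
  let e : Localization.AtPrime q ≃+* Y'.presheaf.stalk y' :=
    (IsLocalization.algEquiv q.primeCompl (Localization.AtPrime q) (Y'.presheaf.stalk y')).toRingEquiv
  have hrq : ν.app V r ∈ q := by
    refine (IsLocalization.AtPrime.to_map_mem_maximal_iff (Y'.presheaf.stalk y') q (ν.app V r)).mp ?_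
    exact germ_mem_maximalIdeal hyW fun h => hy' ((hr'.le h).2)
  obtain ⟨hD, hDVR⟩ := isDiscreteValuationRing_of_integrallyClosedIn_away
    (B := Γ(X, j ⁻¹ᵁ V)) (ν.app V r) q hrq ((ringKrullDim_eq_of_ringEquiv e).trans (hdim' y' hy'))
  haveI := e.symm.toMulEquiv.isDomain
  exact ⟨this, IsDiscreteValuationRing.RingEquivClass.isDiscreteValuationRing e⟩

end Groth.Agent.DimOneAmple
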