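import Groth.Agent.DimOneAmple.ProperCurve
import Groth.Agent.DimOneAmple.RedCompletion
import Groth.Agent.AffThick.Cover
import Groth.Agent.RedSub.Basic
import Mathlib.AlgebraicGeometry.IdealSheaf.IrreducibleComponent

/-!
# Curves are affine or projective
-/

set_option autoImplicit false
set_option linter.style.haveILetI false

universe u

open CategoryTheory CategoryTheory.Limits AlgebraicGeometry TopologicalSpace

noncomputable section

namespace Groth.Agent.DimOneAmple

variable {k : Type u} [Field k]

local notation "Sk" => Spec (CommRingCat.of k)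

/-- A nonempty open of a proper curve other than the whole curve is affine. -/
theorem isAffineOpen_of_ne_top {Y : Scheme.{u}} [IsIntegral Y] [Y.Over Sk] [IsProper (Y ↘ Sk)]
    (hdim : topologicalKrullDim Y = 1) (U : Y.Opens) (hne : (U : Set Y).Nonempty) (htop : U ≠ ⊤) :
    IsAffineOpen U := by
  classical
  haveI := isSeparated_of_proper (X := Y) k
  haveI : IsLocallyNoetherian Y := LocallyOfFiniteType.isLocallyNoetherian (Y ↘ Sk)
  haveI : CompactSpace Y := QuasiCompact.compactSpace_of_compactSpace (Y ↘ Sk)
  haveI : IsNoetherian Y := {}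
  have hη : genericPoint Y ∈ U :=
    ((genericPoint_spec Y).mem_open_set_iff U.isOpen).mpr (by simpa using hne)
  have hgen : genericPoints Y ⊆ (U : Set Y) := by
    rw [genericPoints_eq_singleton]; exact Set.singleton_subset_iff.mpr hη
  obtain ⟨hfin, -⟩ := finite_compl_and_dim hdim.le hgen
  have hcl : ∀ y, y ∉ U → IsClosed ({y} : Set Y) := fun y hy =>
    isClosed_singleton_of_dim_le_one hdim.le fun h => hy (hgen h)
  have key : ∀ s : Finset Y, s.Nonempty → (∀ y ∈ s, y ∉ U) →
      ∃ V : Y.Opens, IsAffineOpen V ∧ (V : Set Y) = (s : Set Y)ᶜ := fun s hs => by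
    induction hs using Finset.Nonempty.cons_induction with
    | singleton a =>
      exact fun h => ⟨_, isAffineOpen_compl_singleton k hdim (hcl a (h a (Finset.mem_singleton_self a))),
        by simp⟩
    | cons a s has _ ih =>
      intro h
      obtain ⟨V, hV, hVs⟩ := ih fun y hy => h y (Finset.mem_cons_of_mem hy)
      refine ⟨_, hV.inf (isAffineOpen_compl_singleton k hdim (hcl a (h a (Finset.mem_cons_self a s)))), ?_⟩
      rw [Opens.coe_inf, hVs, Finset.coe_cons, ← Set.singleton_union, Set.compl_union, Set.inter_comm]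
      rfl
  obtain ⟨V, hV, hVs⟩ := key hfin.toFinset (by
    rw [Set.Finite.toFinset_nonempty, Set.nonempty_compl]
    exact fun h => htop (SetLike.coe_injective (h.trans Opens.coe_top.symm)))
    (fun y hy => hfin.mem_toFinset.mp hy)
  rw [Set.Finite.coe_toFinset, compl_compl] at hVs
  exact SetLike.coe_injective hVs ▸ hV

/-- A curve is affine or projective. -/
theorem isAffine_or_isClosedImmersion (X : Scheme.{u}) [X.Over Sk] [IsIntegral X]
    [IsSeparated (X ↘ Sk)] [LocallyOfFiniteType (X ↘ Sk)] [QuasiCompact (X ↘ Sk)]
    (hdim : topologicalKrullDim X = 1) :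
    IsAffine X ∨ ∃ (d : ℕ) (c : X ⟶ CohB1.ProjSpace d k), IsClosedImmersion c ∧
      c ≫ CohB1.ProjSpace.toSpec d k = X ↘ Sk := by
  obtain ⟨d, Y, c, j, hc, hj, hw, hdense, hsd, hY, hfin, -⟩ :=
    exists_completion (k := k) X hdim.le
  haveI := hc
  haveI := hj
  haveI := hsd
  by_cases hsurj : Set.range j.base = Set.univ
  · right
    haveI : Surjective j := ⟨Set.range_eq_univ.mp hsurj⟩
    haveI : IsIso j := by
      haveI : Epi j.base := (TopCat.epi_iff_surjective _).mpr (Set.range_eq_univ.mp hsurj)
      exact IsOpenImmersion.isIso j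
    exact ⟨d, j ≫ c, inferInstance, by rw [Category.assoc, hw]⟩
  left
  haveI := ProjProper.Basic.isProper_toSpec d k
  letI : Y.Over Sk := ⟨c ≫ CohB1.ProjSpace.toSpec d k⟩
  haveI : IsProper (Y ↘ Sk) := inferInstanceAs (IsProper (c ≫ CohB1.ProjSpace.toSpec d k))
  haveI : QuasiCompact (j ≫ (Y ↘ Sk)) := by
    rw [show j ≫ (Y ↘ Sk) = X ↘ Sk from hw]; infer_instance
  haveI : QuasiCompact j := .of_comp j (Y ↘ Sk)
  haveI : IsReduced Y := IsSchemeTheoreticallyDominant.isReduced j
  haveI : IrreducibleSpace Y := by
    rw [irreducibleSpace_def]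
    convert ((IrreducibleSpace.isIrreducible_univ X).image _ j.continuous.continuousOn).closure
    rw [Set.image_univ]
    exact hdense.closure_eq.symm
  haveI : IsIntegral Y := isIntegral_of_irreducibleSpace_of_isReduced _
  have hY1 : topologicalKrullDim Y = 1 := le_antisymm hY
    (hdim ▸ j.isOpenEmbedding.isInducing.topologicalKrullDim_le)
  have hU : IsAffineOpen j.opensRange := isAffineOpen_of_ne_top (k := k) hY1 _
    (Set.range_nonempty j.base) fun h => hsurj (congrArg (fun U : Y.Opens => (U : Set Y)) h)
  haveI : IsAffine j.opensRange := hU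
  exact IsAffine.of_isIso j.isoOpensRange.hom

/-- An integral scheme of finite type of dimension at most one that is not a proper curve is affine. -/
theorem isAffine_of_not_isProper (X : Scheme.{u}) [X.Over Sk] [IsIntegral X]
    [IsSeparated (X ↘ Sk)] [LocallyOfFiniteType (X ↘ Sk)] [QuasiCompact (X ↘ Sk)]
    (hdim : topologicalKrullDim X ≤ 1) (h : topologicalKrullDim X = 1 → ¬ IsProper (X ↘ Sk)) :
    IsAffine X := by
  by_cases h1 : topologicalKrullDim X = 1
  · refine (isAffine_or_isClosedImmersion (k := k) X h1).resolve_right fun ⟨d, c, hc, hw⟩ => h h1 ?_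
    haveI := hc
    haveI := ProjProper.Basic.isProper_toSpec d k
    rw [← hw]
    infer_instance
  · haveI : IsLocallyNoetherian X := LocallyOfFiniteType.isLocallyNoetherian (X ↘ Sk)
    haveI : CompactSpace X := QuasiCompact.compactSpace_of_compactSpace (X ↘ Sk)
    haveI : IsNoetherian X := {}
    have h0 : ∀ z : X, VarDim.dimPt k X z = 0 := fun z => by
      by_contra hne
      refine h1 (le_antisymm hdim ?_)
      rw [VarDim.topologicalKrullDim_eq_iSup k]
      refine le_iSup_of_le z ?_
      exact_mod_cast Nat.one_le_iff_ne_zero.mpr hne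
    haveI : Subsingleton X := ⟨fun a b => by
      have key : ∀ a : X, a = genericPoint X := fun a => by
        by_contra hne
        have hlt : a < genericPoint X := lt_iff_le_not_ge.mpr ⟨genericPoint_specializes a, fun h' =>
          hne (Specializes.antisymm h' (genericPoint_specializes a)).eq⟩
        have := VarDim.dimPt_lt_of_lt k hlt
        rw [h0, h0] at this
        exact lt_irrefl _ this
      rw [key a, key b]⟩
    obtain ⟨W, hW, hxW, -⟩ := exists_isAffineOpen_mem_and_subset (X := X) (x := genericPoint X)
      (U := ⊤) trivial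
    have : W = ⊤ := eq_top_iff.mpr fun x _ => Subsingleton.elim (genericPoint X) x ▸ hxW
    rw [this] at hW
    haveI : IsAffine (⊤ : X.Opens).toScheme := hW
    exact IsAffine.of_isIso X.topIso.inv

/-- Affineness when no component is a proper curve. -/
theorem isAffine_of_no_proper_component (X : Scheme.{u}) [X.Over Sk]
    [IsSeparated (X ↘ Sk)] [LocallyOfFiniteType (X ↘ Sk)] [IsNoetherian X]
    (hdim : topologicalKrullDim X ≤ 1)
    (h : ∀ (C : Set X) (hC : C ∈ irreducibleComponents (X : Type u)), topologicalKrullDim C = 1 →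
      ¬ IsProper ((X.irreducibleComponentIdeal C hC).radical.subschemeι ≫ (X ↘ Sk))) :
    IsAffine X := by
  haveI : Finite (irreducibleComponents (X : Type u)) :=
    NoetherianSpace.finite_irreducibleComponents.to_subtype
  haveI : QuasiCompact (X ↘ Sk) := (quasiCompact_iff_compactSpace (X ↘ Sk)).mpr inferInstance
  let I : irreducibleComponents (X : Type u) → X.IdealSheafData := fun C =>
    (X.irreducibleComponentIdeal C.1 C.2).radical
  have hrange : ∀ C, Set.range (I C).subschemeι = C.1 := fun C => by
    rw [Scheme.IdealSheafData.range_subschemeι, Scheme.IdealSheafData.support_radical]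
    rfl
  haveI : ∀ C, IsAffine (I C).subscheme := fun C => by
    letI : (I C).subscheme.Over Sk := ⟨(I C).subschemeι ≫ (X ↘ Sk)⟩
    haveI : IsSeparated ((I C).subscheme ↘ Sk) :=
      inferInstanceAs (IsSeparated ((I C).subschemeι ≫ (X ↘ Sk)))
    haveI : LocallyOfFiniteType ((I C).subscheme ↘ Sk) :=
      inferInstanceAs (LocallyOfFiniteType ((I C).subschemeι ≫ (X ↘ Sk)))
    haveI : QuasiCompact ((I C).subscheme ↘ Sk) :=
      inferInstanceAs (QuasiCompact ((I C).subschemeι ≫ (X ↘ Sk)))
    haveI : IsReduced (I C).subscheme :=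
      RedSub.isReduced_subscheme _ fun U => Ideal.radical_isRadical _
    let e := (I C).subschemeι.isEmbedding.toHomeomorph.trans (Homeomorph.setCongr (hrange C))
    haveI : IrreducibleSpace C.1 :=
      irreducibleSpace_def _ |>.mpr (by
        refine ⟨?_, ?_⟩
        · obtain ⟨x, hx⟩ := C.2.1.1
          exact ⟨⟨x, hx⟩, trivial⟩
        · exact Subtype.preirreducibleSpace C.2.1.2 |>.isPreirreducible_univ)
    haveI : IrreducibleSpace (I C).subscheme := by
      rw [irreducibleSpace_def]
      convert (IrreducibleSpace.isIrreducible_univ C.1).image _ e.symm.continuous.continuousOn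
      rw [Set.image_univ, e.symm.surjective.range_eq]
      rfl
    haveI : IsIntegral (I C).subscheme := isIntegral_of_irreducibleSpace_of_isReduced _
    have hde : topologicalKrullDim (I C).subscheme = topologicalKrullDim C.1 :=
      IsHomeomorph.topologicalKrullDim_eq e e.isHomeomorph
    refine isAffine_of_not_isProper (k := k) (I C).subscheme ?_ fun h1 => h C.1 C.2 (hde ▸ h1)
    exact ((I C).subschemeι.isEmbedding.isInducing.topologicalKrullDim_le).trans hdim
  exact AffThick.isAffine_of_finite_cover (fun C => (I C).subscheme) (fun C => (I C).subschemeι)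
    fun x => ⟨⟨_, irreducibleComponent_mem_irreducibleComponents x⟩, by
      rw [hrange]; exact mem_irreducibleComponent⟩

end Groth.Agent.DimOneAmple
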