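import Groth.Agent.OneDim.Basic
import Mathlib.RingTheory.Finiteness.Ideal
import Mathlib.RingTheory.Localization.Integer
import Mathlib.RingTheory.IntegralClosure.IsIntegralClosure.Basic
import Mathlib.RingTheory.Adjoin.Basic

/-!
# Inverting a function with poles at the closed point of a one-dimensional local ring
-/

set_option autoImplicit false
set_option linter.style.haveILetI false

open IsLocalRing

namespace Groth.Agent.DimOneAmple

variable {R : Type*} [CommRing R] [IsLocalRing R]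

/-- Powers of an element of the maximal ideal become divisible, modulo a nonmaximal prime, by any
element outside that prime. -/
lemma exists_pow_eq_mul {K : Type*} [Field K] (φ : R →+* K)
    (hprime : ∀ (P : Ideal R) [P.IsPrime], P ∈ minimalPrimes R ∨ P = maximalIdeal R)
    {b : R} (hb : φ b ≠ 0) {c : R} (hc : c ∈ maximalIdeal R) :
    ∃ (n : ℕ) (w : R), φ c ^ n = φ b * φ w := by
  have hc' : c ∈ (Ideal.span {b} ⊔ RingHom.ker φ).radical := by
    rw [Ideal.radical_eq_sInf]
    refine Ideal.mem_sInf.mpr fun {J} hJ => ?_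
    haveI := hJ.2
    rcases hprime J with h | h
    · haveI : (RingHom.ker φ).IsPrime := RingHom.ker_isPrime φ
      have h1 : J ≤ RingHom.ker φ := h.2 ⟨inferInstance, bot_le⟩ (le_sup_right.trans hJ.1)
      have h2 : b ∈ J := hJ.1 (Ideal.mem_sup_left (Ideal.mem_span_singleton_self b))
      exact absurd (RingHom.mem_ker.mp (h1 h2)) hb
    · exact h ▸ hc
  obtain ⟨n, hn⟩ := hc'
  obtain ⟨x, hx, y, hy, hxy⟩ := Submodule.mem_sup.mp hn
  obtain ⟨w, rfl⟩ := Ideal.mem_span_singleton'.mp hx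
  refine ⟨n, w, ?_⟩
  rw [← map_pow, ← hxy, map_add, RingHom.mem_ker.mp hy, add_zero, map_mul, mul_comm]

/-- `b / r ^ k` has, after a power, an inverse in the maximal ideal if it does so modulo every
minimal prime. -/
theorem exists_inverse [IsNoetherianRing R] {r : R} (hrm : r ∈ maximalIdeal R)
    (hmin : ∀ (P : Ideal R) [P.IsPrime], r ∉ P → P ∈ minimalPrimes R)
    (hmax : ∀ (P : Ideal R) [P.IsPrime], r ∈ P → P = maximalIdeal R)
    (b : R) (k : ℕ)
    (hc : ∀ P ∈ minimalPrimes R, r ∉ P → ∃ c ∈ maximalIdeal R, c * b - r ^ k ∈ P) :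
    ∃ (M t : ℕ) (g : R), 0 < M ∧ g ∈ maximalIdeal R ∧ r ^ t * (g * b ^ M) = r ^ (t + k * M) := by
  classical
  have hrad : maximalIdeal R ≤ (Ideal.span {r}).radical := by
    rw [Ideal.radical_eq_sInf]
    exact le_sInf fun P hP => by
      haveI := hP.2
      exact (hmax P (hP.1 (Ideal.mem_span_singleton_self r))).ge
  obtain ⟨M₀, hM₀⟩ := Ideal.exists_pow_le_of_le_radical_of_fg hrad (IsNoetherian.noetherian _)
  let S := Localization.Away r
  let T : Finset (Ideal R) :=
    (minimalPrimes.finite_of_isNoetherianRing R).toFinset.filter (fun P => r ∉ P)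
  have hT : ∀ P ∈ T, P ∈ minimalPrimes R ∧ r ∉ P := fun P hP => by
    simpa [T] using hP
  choose! c hcm hcb using fun P (hP : P ∈ T) => hc P (hT P hP).1 (hT P hP).2
  have hd : ∀ P ∈ T, ∃ d, c P ^ (M₀ + 1) = r * d := fun P hP => by
    obtain ⟨d, hd⟩ := Ideal.mem_span_singleton'.mp
      (hM₀ (Ideal.pow_le_pow_right (Nat.le_succ M₀) (Ideal.pow_mem_pow (hcm P hP) _)))
    exact ⟨d, by rw [← hd, mul_comm]⟩
  choose! d hd using hd
  have hru : IsUnit (algebraMap R S r) := IsLocalization.Away.algebraMap_isUnit r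
  have hprimeS : ∀ (Q : Ideal S), Q.IsPrime → Q.comap (algebraMap R S) ∈ T := fun Q hQ => by
    haveI := hQ
    have hr : r ∉ Q.comap (algebraMap R S) := fun h =>
      hQ.ne_top (Ideal.eq_top_of_isUnit_mem _ h hru)
    simp only [T, Finset.mem_filter, Set.Finite.mem_toFinset]
    exact ⟨hmin _ hr, hr⟩
  have hbu : IsUnit (algebraMap R S b) := by
    by_contra hb
    obtain ⟨Q, hQ, hbQ⟩ := exists_max_ideal_of_mem_nonunits (mem_nonunits_iff.mpr hb)
    have hP := hprimeS Q hQ.isPrime
    have hmul : c (Q.comap (algebraMap R S)) * b ∈ Q.comap (algebraMap R S) :=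
      Ideal.mul_mem_left _ _ hbQ
    haveI := (hT _ hP).1.1.1
    exact (hT _ hP).2 (Ideal.IsPrime.mem_of_pow_mem inferInstance k
      (by simpa using sub_mem hmul (hcb _ hP)))
  obtain ⟨ur, hur⟩ := hru
  obtain ⟨ub, hub⟩ := hbu
  set ψ : S := ((ur ^ k * ub⁻¹ : Sˣ) : S) with hψ
  set z : S := ψ ^ (M₀ + 1) * ((ur⁻¹ : Sˣ) : S) with hz
  have hψb : ψ * algebraMap R S b = algebraMap R S r ^ k := by
    rw [hψ, ← hur, ← hub]
    simp
  have hrz : algebraMap R S r * z = ψ ^ (M₀ + 1) := by
    rw [hz, ← hur, mul_left_comm, Units.mul_inv, mul_one]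
  have hzQ : ∀ (Q : Ideal S), Q.IsPrime → ∃ P ∈ T, z - algebraMap R S (d P) ∈ Q := fun Q hQ => by
    refine ⟨_, hprimeS Q hQ, ?_⟩
    set P := Q.comap (algebraMap R S)
    have h1 : ψ - algebraMap R S (c P) ∈ Q := by
      have h2 : algebraMap R S (c P * b - r ^ k) ∈ Q := hcb P (hprimeS Q hQ)
      have h3 : algebraMap R S (c P * b - r ^ k) = (algebraMap R S (c P) - ψ) * ub := by
        rw [map_sub, map_mul, map_pow, sub_mul, hub, hψb]
      rw [h3, Ideal.mul_unit_mem_iff_mem _ ub.isUnit] at h2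
      simpa using Q.neg_mem h2
    have h4 : algebraMap R S r * (z - algebraMap R S (d P)) ∈ Q := by
      rw [mul_sub, hrz, ← map_mul, ← hd P (hprimeS Q hQ), map_pow]
      exact Q.mem_of_dvd (sub_dvd_pow_sub_pow _ _ _) h1
    rwa [← hur, Ideal.unit_mul_mem_iff_mem _ ur.isUnit] at h4
  obtain ⟨N, hN⟩ : IsNilpotent (∏ P ∈ T, (z - algebraMap R S (d P))) := by
    refine nilpotent_iff_mem_prime.mpr fun Q hQ => ?_
    obtain ⟨P, hP, hPQ⟩ := hzQ Q hQ
    exact Ideal.mem_of_dvd Q (Finset.dvd_prod_of_mem _ hP) hPQ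
  have hint : IsIntegral R z := by
    refine ⟨(∏ P ∈ T, (Polynomial.X - Polynomial.C (d P))) ^ N,
      (Polynomial.monic_prod_of_monic _ _ fun P _ => Polynomial.monic_X_sub_C _).pow N, ?_⟩
    simp only [Polynomial.eval₂_pow, Polynomial.eval₂_finsetProd, Polynomial.eval₂_sub,
      Polynomial.eval₂_X, Polynomial.eval₂_C]
    exact hN
  obtain ⟨G, hG⟩ := hint.fg_adjoin_singleton
  obtain ⟨⟨s, j, rfl⟩, hs⟩ :=
    IsLocalization.exist_integer_multiples_of_finset (M := Submonoid.powers r) G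
  have hmem : ∀ y ∈ Submodule.span R (G : Set S), IsLocalization.IsInteger R ((r ^ j) • y) := by
    intro y hy
    induction hy using Submodule.span_induction with
    | mem y hy => exact hs y hy
    | zero => rw [smul_zero]; exact IsLocalization.isInteger_zero
    | add y y' _ _ h h' => rw [smul_add]; exact IsLocalization.isInteger_add h h'
    | smul a y _ h => rw [smul_comm]; exact IsLocalization.isInteger_smul h
  obtain ⟨v, hv⟩ := hmem (z ^ (j + 1)) (by
    rw [hG]
    exact pow_mem (Algebra.self_mem_adjoin_singleton R z) _)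
  have hg : algebraMap R S (r * v * b ^ ((M₀ + 1) * (j + 1))) =
      algebraMap R S (r ^ (k * ((M₀ + 1) * (j + 1)))) := by
    rw [map_mul, map_mul, hv, Algebra.smul_def, map_pow, map_pow, map_pow, ← mul_assoc, ← pow_succ',
      ← mul_pow, hrz, ← pow_mul, ← mul_pow, hψb, ← pow_mul]
  obtain ⟨⟨_, t, rfl⟩, ht⟩ := (IsLocalization.eq_iff_exists (Submonoid.powers r) S).mp hg
  refine ⟨(M₀ + 1) * (j + 1), t, r * v, by positivity, Ideal.mul_mem_right _ _ hrm, ?_⟩
  rw [pow_add]
  exact ht

end Groth.Agent.DimOneAmple
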