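import Groth.Agent.DimOneAmple.Pole
import Groth.Agent.LineCoc.Basic
import Groth.Agent.AmpleLib.Locus
import Groth.Agent.Props.AmpleGG

/-!
# The invertible module with a section generating exactly on a given affine open
-/

set_option autoImplicit false
set_option linter.style.haveILetI false
set_option backward.isDefEq.respectTransparency.types false

universe u

open CategoryTheory AlgebraicGeometry TopologicalSpace Opposite

noncomputable section

namespace Groth.Agent.DimOneAmple

open Groth.Agent.QCoh Groth.Agent.Props.GenLocus Groth.Agent.LineCoc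

variable {X : Scheme.{u}}

/-- From functions with inverse vanishing at the points outside `U`: an effective divisor with
support the complement of `U`, moving freely. -/
theorem exists_module_of_pole {U : X.Opens} (f : Γ(X, U))
    (hf : ∀ x, x ∉ U → ∃ (V : X.Opens) (g : Γ(X, V)), x ∈ V ∧
      (∀ y ∈ V, y ∉ U → y = x) ∧ x ∉ X.basicOpen g ∧
      rs (inf_le_left : V ⊓ U ≤ V) g * rs (inf_le_right : V ⊓ U ≤ U) f = 1) :
    ∃ (L : X.Modules) (s : Coh.structureModule X ⟶ L), PicF.IsInvertible L ∧
      Curv2.IsGloballyGenerated L ∧ CohB1.genLocus L s = U := by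
  classical
  choose V g hxV hVU hxg hgf using fun d : {x : X // x ∉ U} => hf d.1 d.2
  let W : Option {x : X // x ∉ U} → X.Opens := fun i => i.elim U V
  let num : ∀ i, Γ(X, W i) := fun i => match i with
    | none => 1
    | some d => g d
  let den : ∀ i, Γ(X, W i ⊓ U) := fun i => match i with
    | none => 1
    | some d => rres inf_le_right f
  have hnd : ∀ i, rres (inf_le_left : W i ⊓ U ≤ W i) (num i) * den i = 1 := by
    rintro (_ | d)
    · simp [num, den]
    · exact hgf d
  have hWU : ∀ i j, i ≠ j → W i ⊓ W j ≤ U := by
    rintro (_ | d) (_ | e) hne y ⟨hy, hy'⟩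
    · exact hy
    · exact hy
    · exact hy'
    · by_contra hyU
      exact hne (congrArg some (Subtype.ext ((hVU d y hy hyU).symm.trans (hVU e y hy' hyU))))
  let a : ∀ i j, Γ(X, W i ⊓ W j) := fun i j => if h : i = j then 1 else
    rres inf_le_left (num i) * rres (le_inf inf_le_right (hWU i j h)) (den j)
  have ha : ∀ i j (O : X.Opens) (h : O ≤ W i ⊓ W j) (hO : O ≤ U),
      rres h (a i j) = rres (h.trans inf_le_left) (num i) *
        rres (le_inf (h.trans inf_le_right) hO) (den j) := by
    intro i j O h hO
    by_cases hij : i = j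
    · subst hij
      simp only [a, dif_pos, map_one]
      have := congrArg (rres (le_inf (h.trans inf_le_left) hO)) (hnd i)
      rw [map_mul, map_one, rres_rres] at this
      exact this.symm
    · simp only [a, dif_neg hij, map_mul, rres_rres]
  have haself : ∀ i, a i i = 1 := fun i => dif_pos rfl
  let C : Cocycle X :=
    { ι := Option {x : X // x ∉ U}
      W := W
      a := a
      cover := fun x _ => by
        by_cases hx : x ∈ U
        · exact Opens.mem_iSup.mpr ⟨none, hx⟩
        · exact Opens.mem_iSup.mpr ⟨some ⟨x, hx⟩, hxV _⟩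
      self := haself
      coc := fun i j k O h₁ h₂ h₃ => by
        by_cases hij : i = j
        · subst hij
          rw [haself, map_one, one_mul]
        by_cases hjk : j = k
        · subst hjk
          rw [haself, map_one, mul_one]
        have hO : O ≤ U := h₁.trans (hWU i j hij)
        rw [ha i j O h₁ hO, ha j k O h₂ hO, ha i k O h₃ hO]
        have := congrArg (rres (le_inf (h₁.trans inf_le_right) hO : O ≤ W j ⊓ U)) (hnd j)
        rw [map_mul, map_one, rres_rres] at this
        calc _ = rres (h₁.trans inf_le_left) (num i) * rres (le_inf (h₂.trans inf_le_right) hO) (den k) *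
              (rres (h₂.trans inf_le_left) (num j) *
                rres (le_inf (h₁.trans inf_le_right) hO) (den j)) := by ring
          _ = _ := by rw [this, mul_one] }
  -- families given by a function on `U` and local expressions
  have hfam : ∀ (c : ∀ i, Γ(X, W i)) (φ : Γ(X, U)), (∀ i, rres (inf_le_left : W i ⊓ U ≤ W i) (c i) =
      rres (inf_le_left : W i ⊓ U ≤ W i) (num i) * rres (inf_le_right : W i ⊓ U ≤ U) φ) →
      ∃ s : Coh.structureModule X ⟶ mod C, ∀ i, CohB1.genLocus (mod C) s ⊓ W i = X.basicOpen (c i) := by
    intro c φ hc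
    have hmem : (fun k => rres (inf_le_right : (⊤ : X.Opens) ⊓ C.W k ≤ C.W k) (c k)) ∈ fam C ⊤ := by
      intro k l
      simp only [rres_rres]
      by_cases hkl : k = l
      · subst hkl
        rw [C.self, map_one, one_mul]
      · set O : X.Opens := ⊤ ⊓ (C.W k ⊓ C.W l)
        have hk : O ≤ W k := inf_le_right.trans inf_le_left
        have hl : O ≤ W l := inf_le_right.trans inf_le_right
        have hO : O ≤ U := inf_le_right.trans (hWU k l hkl)
        have h1 := congrArg (rres (le_inf hk hO)) (hc k)
        have h2 := congrArg (rres (le_inf hl hO)) (hc l)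
        have h3 := congrArg (rres (le_inf hl hO)) (hnd l)
        simp only [map_mul, map_one, rres_rres] at h1 h2 h3
        change rres hk (c k) = rres (inf_le_right : O ≤ _) (a k l) * rres hl (c l)
        rw [ha k l O inf_le_right hO, h1, h2]
        calc _ = rres hk (num k) * rres hO φ *
              (rres hl (num l) * rres (le_inf hl hO) (den l)) := by rw [h3, mul_one]
          _ = _ := by ring
    refine ⟨homOfSec (L := mod C) (⟨_, hmem⟩ : fam C ⊤), fun i => genLocus_inf (isGen_gen C i) _ ?_⟩
    rw [sec_homOfSec]
    obtain ⟨b, hb, -⟩ := (isGen_gen C i).exists_eq le_rfl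
      (res (mod C) le_top (show Γ(mod C, ⊤) from (⟨_, hmem⟩ : fam C ⊤)))
    rw [res_self] at hb
    have h := congrArg (fun s : fam C (C.W i) => rres (le_inf le_rfl le_rfl : C.W i ≤ _) (s.1 i)) hb
    change rres _ (rres _ (rres _ (c i))) = rres _ (rres _ b * rres _ (C.a i i)) at h
    rw [C.self, map_one, mul_one, rres_rres, rres_rres, rres_rres] at h
    simp only [rres_self] at h
    rw [h]
    exact hb
  obtain ⟨s, hs⟩ := hfam num 1 fun i => by rw [map_one, mul_one]
  obtain ⟨t, ht⟩ := hfam (fun i => match i with
    | none => f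
    | some d => 1) f (by
      rintro (_ | d)
      · simp [num]; rfl
      · rw [map_one]; exact (hgf d).symm)
  have hsU : CohB1.genLocus (mod C) s = U := by
    refine le_antisymm (fun x hx => ?_) ?_
    · by_contra hxU
      have h : x ∈ CohB1.genLocus (mod C) s ⊓ W (some ⟨x, hxU⟩) := ⟨hx, hxV _⟩
      rw [hs] at h
      exact hxg ⟨x, hxU⟩ h
    · have h := hs none
      simp only [num, X.basicOpen_one] at h
      exact inf_eq_right.mp h
  refine ⟨mod C, s, isInvertible C, Props.AmpleGG.isGloballyGenerated_of_genLocus fun x => ?_, hsU⟩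
  by_cases hx : x ∈ U
  · exact ⟨s, hsU.symm ▸ hx⟩
  · refine ⟨t, (inf_le_left : CohB1.genLocus (mod C) t ⊓ W (some ⟨x, hx⟩) ≤ _) ?_⟩
    rw [ht, X.basicOpen_one]
    exact hxV _

end Groth.Agent.DimOneAmple
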