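import Groth.Agent.DimOneAmple.Ample
import Groth.Agent.S2330
import Groth.Agent.ProperFin.PnBase
import Groth.Agent.ProjProper.Basic
import Groth.Agent.VarDim.Scheme
import Mathlib.AlgebraicGeometry.Morphisms.SchemeTheoreticallyDominant

/-!
# Quasi-projectivity and projective completions in dimension one
-/

set_option autoImplicit false
set_option linter.style.haveILetI false

universe u

open CategoryTheory CategoryTheory.Limits AlgebraicGeometry TopologicalSpace

noncomputable section

namespace Groth.Agent.DimOneAmple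

variable {k : Type u} [Field k]

local notation "Sk" => Spec (CommRingCat.of k)

theorem exists_immersion (X : Scheme.{u}) [X.Over Sk] [IsSeparated (X ↘ Sk)]
    [LocallyOfFiniteType (X ↘ Sk)] [QuasiCompact (X ↘ Sk)] (hdim : topologicalKrullDim X ≤ 1) :
    ∃ (n : ℕ) (i : X ⟶ CohB1.ProjSpace n k), IsImmersion i ∧
      i ≫ CohB1.ProjSpace.toSpec n k = X ↘ Sk := by
  haveI : IsLocallyNoetherian X := LocallyOfFiniteType.isLocallyNoetherian (X ↘ Sk)
  haveI : CompactSpace X := QuasiCompact.compactSpace_of_compactSpace (X ↘ Sk)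
  haveI : IsNoetherian X := {}
  haveI : IsSeparated ((X ↘ Sk) ≫ terminal.from Sk) := inferInstance
  haveI : X.IsSeparated := ⟨terminal.hom_ext (terminal.from X) ((X ↘ Sk) ≫ terminal.from _) ▸ this⟩
  obtain ⟨L, hL⟩ := exists_ample_of_dim_le_one X hdim
  obtain ⟨m, -, n, i, hi, hif, -⟩ := (S2330.result (X ↘ Sk) L hL.1).1.mp hL
  obtain ⟨e, he⟩ := ProperFin.exists_iso_projSpaceOver n k
  haveI := hi
  exact ⟨n, i ≫ e.hom, inferInstance, by rw [Category.assoc, he]; exact hif⟩

theorem exists_closedImmersion (X : Scheme.{u}) [X.Over Sk] [IsProper (X ↘ Sk)]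
    (hdim : topologicalKrullDim X ≤ 1) :
    ∃ (n : ℕ) (i : X ⟶ CohB1.ProjSpace n k), IsClosedImmersion i ∧
      i ≫ CohB1.ProjSpace.toSpec n k = X ↘ Sk := by
  obtain ⟨n, i, hi, hw⟩ := exists_immersion (k := k) X hdim
  haveI := hi
  haveI := ProjProper.Basic.isProper_toSpec n k
  haveI : IsProper (i ≫ CohB1.ProjSpace.toSpec n k) := by rw [hw]; infer_instance
  haveI : IsProper i := IsProper.of_comp i (CohB1.ProjSpace.toSpec n k)
  exact ⟨n, i, .of_isPreimmersion i i.isClosedMap.isClosed_range, hw⟩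

/-- A dense open of a Noetherian scheme contains the maximal points. -/
lemma genericPoints_subset_of_dense {Y : Scheme.{u}} [IsNoetherian Y] {U : Y.Opens}
    (hU : Dense (U : Set Y)) : genericPoints Y ⊆ U := by
  intro η hη
  by_contra hηU
  have hc : IsClosed (⋃ η' ∈ genericPoints Y \ {η}, closure ({η'} : Set Y)) :=
    (finite_genericPoints.sdiff).isClosed_biUnion fun _ _ => isClosed_closure
  have hmem : η ∈ (⋃ η' ∈ genericPoints Y \ {η}, closure ({η'} : Set Y))ᶜ := fun h => by
    obtain ⟨η', hη', h'⟩ := Set.mem_iUnion₂.mp h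
    exact hη'.2 (mem_genericPoints_iff.mp hη η' (specializes_iff_mem_closure.mpr h'))
  obtain ⟨z, hz, hzU⟩ := hU.inter_open_nonempty _ hc.isOpen_compl ⟨η, hmem⟩
  obtain ⟨g, hg, hgg⟩ := exists_maximal_specializes z
  refine hηU ?_
  by_cases h : g = η
  · exact h ▸ hg.mem_open U.2 hzU
  · exact absurd (Set.mem_iUnion₂.mpr ⟨g, ⟨hgg, h⟩, specializes_iff_mem_closure.mp hg⟩) hz

/-- In dimension at most one a non-maximal point is closed. -/
lemma isClosed_singleton_of_dim_le_one {Y : Scheme.{u}} (hdim : topologicalKrullDim Y ≤ 1)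
    {z : Y} (hz : z ∉ genericPoints Y) : IsClosed ({z} : Set Y) := by
  refine closure_eq_iff_isClosed.mp (Set.Subset.antisymm (fun w hw => ?_) subset_closure)
  by_contra hne
  refine hz (mem_genericPoints_iff.mpr fun y' hy' => ?_)
  refine maximal_of_specializes (specializes_iff_mem_closure.mpr hw) (Ne.symm hne) ?_ hy'
  rw [DimIneq.topologicalKrullDim_eq_iSup_stalk] at hdim
  exact (le_iSup (fun z : Y => ringKrullDim (Y.presheaf.stalk z)) w).trans hdim

/-- A scheme of finite type over a field with a dense open of dimension at most one has dimension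
at most one. -/
lemma dim_le_one_of_dense {Y : Scheme.{u}} [Y.Over Sk] [IsNoetherian Y]
    [LocallyOfFiniteType (Y ↘ Sk)] {U : Y.Opens} (hU : Dense (U : Set Y))
    (hdim : topologicalKrullDim (U : Set Y) ≤ 1) : topologicalKrullDim Y ≤ 1 := by
  rw [VarDim.topologicalKrullDim_eq_iSup k]
  refine iSup_le fun z => ?_
  obtain ⟨g, hg, hgg⟩ := exists_maximal_specializes z
  calc (VarDim.dimPt k Y z : WithBot ℕ∞) ≤ VarDim.dimPt k Y g := by
        exact_mod_cast (VarDim.exists_ltSeries_of_le k (hg : z ≤ g)).1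
    _ ≤ topologicalKrullDim (U : Set Y) :=
        VarDim.le_topologicalKrullDim_opens k U (genericPoints_subset_of_dense hU hgg) le_rfl
    _ ≤ 1 := hdim

theorem exists_completion (X : Scheme.{u}) [X.Over Sk] [IsSeparated (X ↘ Sk)]
    [LocallyOfFiniteType (X ↘ Sk)] [QuasiCompact (X ↘ Sk)] (hdim : topologicalKrullDim X ≤ 1) :
    ∃ (d : ℕ) (Y : Scheme.{u}) (c : Y ⟶ CohB1.ProjSpace d k) (j : X ⟶ Y), IsClosedImmersion c ∧
      IsOpenImmersion j ∧ j ≫ c ≫ CohB1.ProjSpace.toSpec d k = X ↘ Sk ∧
      Dense (Set.range j.base) ∧ IsSchemeTheoreticallyDominant j ∧ topologicalKrullDim Y ≤ 1 ∧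
      (Set.range j.base)ᶜ.Finite ∧ ∀ y ∈ (Set.range j.base)ᶜ, IsClosed ({y} : Set Y) := by
  obtain ⟨n, i, hi, hw⟩ := exists_immersion (k := k) X hdim
  haveI := hi
  haveI := ProjProper.Basic.isProper_toSpec n k
  haveI : QuasiCompact (i ≫ CohB1.ProjSpace.toSpec n k) := by rw [hw]; infer_instance
  haveI : QuasiCompact i := .of_comp _ (CohB1.ProjSpace.toSpec n k)
  letI : i.image.Over Sk := ⟨i.imageι ≫ CohB1.ProjSpace.toSpec n k⟩
  haveI : IsProper (i.image ↘ Sk) :=
    inferInstanceAs (IsProper (i.imageι ≫ CohB1.ProjSpace.toSpec n k))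
  haveI : IsLocallyNoetherian i.image := LocallyOfFiniteType.isLocallyNoetherian (i.image ↘ Sk)
  haveI : CompactSpace i.image := QuasiCompact.compactSpace_of_compactSpace (i.image ↘ Sk)
  haveI : IsNoetherian i.image := {}
  have hdense : Dense (Set.range i.toImage.base) := i.toImage.denseRange
  have hY : topologicalKrullDim i.image ≤ 1 := by
    refine dim_le_one_of_dense (k := k) (U := i.toImage.opensRange) hdense ?_
    refine le_of_eq_of_le ?_ hdim
    exact (IsHomeomorph.topologicalKrullDim_eq _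
      i.toImage.isOpenEmbedding.isEmbedding.toHomeomorph.isHomeomorph).symm
  have hgen : genericPoints i.image ⊆ (i.toImage.opensRange : Set i.image) :=
    genericPoints_subset_of_dense hdense
  refine ⟨n, i.image, i.imageι, i.toImage, inferInstance, inferInstance, ?_, hdense, ?_, hY,
    (finite_compl_and_dim hY hgen).1,
    fun y hy => isClosed_singleton_of_dim_le_one hY fun h => hy (hgen h)⟩
  · rw [Scheme.Hom.toImage_imageι_assoc, hw]
  · constructor
    refine Scheme.IdealSheafData.ext_of_iSup_eq_top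
      (fun U : (CohB1.ProjSpace n k).affineOpens =>
        (⟨i.imageι ⁻¹ᵁ U.1, U.2.preimage i.imageι⟩ : i.image.affineOpens)) ?_ fun U => ?_
    · simp only [← Scheme.Hom.preimage_iSup, iSup_affineOpens_eq_top, Scheme.Hom.preimage_top]
    · rw [Scheme.Hom.ker_apply]
      simpa using (RingHom.injective_iff_ker_eq_bot _).mp (i.toImage_app_injective (U := U))

end Groth.Agent.DimOneAmple
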