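import Groth.Agent.DimOneAmple.Algebra
import Mathlib.AlgebraicGeometry.Morphisms.Separated
import Mathlib.AlgebraicGeometry.ResidueField

/-!
# Evaluations at generizations of a point of height one
-/

set_option autoImplicit false
set_option linter.style.haveILetI false
set_option backward.isDefEq.respectTransparency.types false

universe u

open CategoryTheory AlgebraicGeometry TopologicalSpace Opposite IsLocalRing

noncomputable section

namespace Groth.Agent.DimOneAmple

variable {X : Scheme.{u}}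

/-- Restriction of functions. -/
abbrev rs {U V : X.Opens} (h : V ≤ U) (s : Γ(X, U)) : Γ(X, V) :=
  X.presheaf.map (homOfLE h).op s

/-- The local ring at `x` evaluated at a generization `y`. -/
def specEv {x y : X} (h : y ⤳ x) : X.presheaf.stalk x →+* X.residueField y :=
  (X.residue y).hom.comp (X.presheaf.stalkSpecializes h).hom

lemma specEv_germ {x y : X} (h : y ⤳ x) (V : X.Opens) (hx : x ∈ V) (s : Γ(X, V)) :
    specEv h (X.presheaf.germ V x hx s) = X.evaluation V y (h.mem_open V.2 hx) s := by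
  change (X.presheaf.germ V x hx ≫ X.presheaf.stalkSpecializes h ≫ X.residue y) s = _
  rw [TopCat.Presheaf.germ_stalkSpecializes_assoc, Scheme.germ_residue]

lemma evaluation_rs {U V : X.Opens} (h : V ≤ U) {x : X} (hx : x ∈ V) (s : Γ(X, U)) :
    X.evaluation V x hx (rs h s) = X.evaluation U x (h hx) s :=
  congrArg (X.residue x).hom (X.presheaf.germ_res_apply (homOfLE h) x hx s)

/-- The residue field at a point of an affine open is made of quotients of values. -/
lemma exists_div_evaluation {V : X.Opens} (hV : IsAffineOpen V) {y : X} (hy : y ∈ V)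
    (z : X.residueField y) :
    ∃ a b : Γ(X, V), X.evaluation V y hy b ≠ 0 ∧
      z = X.evaluation V y hy a / X.evaluation V y hy b := by
  letI := TopCat.Presheaf.algebra_section_stalk X.presheaf ⟨y, hy⟩
  haveI := hV.isLocalization_stalk ⟨y, hy⟩
  obtain ⟨t, rfl⟩ := X.residue_surjective y z
  obtain ⟨⟨a, b⟩, hab⟩ := IsLocalization.surj (hV.primeIdealOf ⟨y, hy⟩).asIdeal.primeCompl t
  have hb : X.evaluation V y hy (b : Γ(X, V)) ≠ 0 :=
    ((IsLocalization.map_units (X.presheaf.stalk y) b).map (X.residue y).hom).ne_zero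
  refine ⟨a, b, hb, (eq_div_iff hb).mpr ?_⟩
  have h := congrArg (X.residue y).hom hab
  rw [map_mul] at h
  exact h

/-- Primes of the local ring at `x` are the kernels of evaluation at generizations. -/
lemma exists_point_of_prime {x : X} (P : Ideal (X.presheaf.stalk x)) [hP : P.IsPrime] :
    ∃ (y : X) (h : y ⤳ x), RingHom.ker (specEv h) = P := by
  obtain ⟨V, hV, hx, -⟩ := exists_isAffineOpen_mem_and_subset (X := X) (x := x) (U := ⊤) trivial
  letI := TopCat.Presheaf.algebra_section_stalk X.presheaf ⟨x, hx⟩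
  haveI := hV.isLocalization_stalk ⟨x, hx⟩
  set q := (hV.primeIdealOf ⟨x, hx⟩).asIdeal with hq
  obtain ⟨hp, hdisj⟩ := (IsLocalization.isPrime_iff_isPrime_disjoint q.primeCompl
    (X.presheaf.stalk x) P).mp hP
  set p : PrimeSpectrum Γ(X, V) := ⟨_, hp⟩
  have hpq : p ≤ hV.primeIdealOf ⟨x, hx⟩ := fun s hs => by
    by_contra hsq
    exact Set.disjoint_left.mp hdisj hsq hs
  have h : hV.fromSpec p ⤳ x := by
    have := ((PrimeSpectrum.le_iff_specializes _ _).mp hpq).map hV.fromSpec.continuous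
    rwa [hV.fromSpec_primeIdealOf] at this
  refine ⟨_, h, ?_⟩
  haveI : (RingHom.ker (specEv h)).IsPrime := RingHom.ker_isPrime _
  rw [← IsLocalization.map_under q.primeCompl (X.presheaf.stalk x) (RingHom.ker (specEv h)),
    ← IsLocalization.map_under q.primeCompl (X.presheaf.stalk x) P]
  congr 1
  ext s
  change specEv h (X.presheaf.germ V x hx s) = 0 ↔ s ∈ p.asIdeal
  rw [specEv_germ, Scheme.evaluation_eq_zero_iff_notMem_basicOpen]
  have := hV.fromSpec_preimage_basicOpen s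
  rw [show hV.fromSpec p ∈ X.basicOpen s ↔ p ∈ PrimeSpectrum.basicOpen s by rw [← this]; rfl]
  exact not_not

lemma ker_specEv_self (x : X) :
    RingHom.ker (specEv (specializes_refl x)) = maximalIdeal (X.presheaf.stalk x) := by
  ext a
  rw [RingHom.mem_ker, specEv]
  simp only [TopCat.Presheaf.stalkSpecializes_refl, CommRingCat.hom_id, RingHom.comp_id]
  exact IsLocalRing.residue_eq_zero_iff a

lemma germ_mem_maximalIdeal {V : X.Opens} {x : X} (hx : x ∈ V) {s : Γ(X, V)}
    (h : x ∉ X.basicOpen s) : X.presheaf.germ V x hx s ∈ maximalIdeal (X.presheaf.stalk x) :=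
  fun hu => h ((X.mem_basicOpen s x hx).mpr hu)

/-- A function near a point of height one outside `U` whose nonvanishing locus is in `U`, exactly. -/
lemma exists_local_eq {U : X.Opens}
    (hU : ∀ V : X.Opens, IsAffineOpen V → IsCompact ((V ⊓ U : X.Opens) : Set X)) {x : X} (hxU : x ∉ U)
    [IsNoetherianRing (X.presheaf.stalk x)] (hdim : ringKrullDim (X.presheaf.stalk x) = 1)
    {V₀ : X.Opens} (hx₀ : x ∈ V₀) (hV₀ : ∀ y ∈ V₀, y ∉ U → y = x) :
    ∃ (V : X.Opens) (r : Γ(X, V)), IsAffineOpen V ∧ x ∈ V ∧ V ≤ V₀ ∧ X.basicOpen r = V ⊓ U := by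
  classical
  obtain ⟨f, hfm, hf⟩ := OneDim.exists_notMem_minimalPrimes hdim
  obtain ⟨V₁, hxV₁, r₁, hr₁⟩ := X.presheaf.exists_germ_eq f
  obtain ⟨V₂, hV₂, hxV₂, hV₂le⟩ :=
    exists_isAffineOpen_mem_and_subset (X := X) (x := x) (U := V₀ ⊓ V₁) ⟨hx₀, hxV₁⟩
  set r : Γ(X, V₂) := rs (hV₂le.trans inf_le_right) r₁
  have hr : X.presheaf.germ V₂ x hxV₂ r = f := by
    rw [X.presheaf.germ_res_apply]; exact hr₁
  have hxr : x ∉ X.basicOpen r := fun h => by
    rw [X.mem_basicOpen r x hxV₂, hr] at h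
    exact hfm h
  have hrU : X.basicOpen r ≤ U := fun y hy => by
    by_contra hyU
    exact hxr (hV₀ y ((hV₂le.trans inf_le_left) (X.basicOpen_le r hy)) hyU ▸ hy)
  -- the affine `V₂ ⊓ U` is covered by finitely many basic opens of `V₂`
  have hC := hU V₂ hV₂
  choose a haU ha using fun y : (V₂ ⊓ U : X.Opens) =>
    hV₂.exists_basicOpen_le (V := V₂ ⊓ U) y y.2.1
  obtain ⟨t, ht⟩ := hC.elim_finite_subcover (fun y => (X.basicOpen (a y) : Set X))
    (fun y => (X.basicOpen _).2) (fun y hy => Set.mem_iUnion.mpr ⟨⟨y, hy⟩, ha _⟩)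
  have key : ∀ y, ∃ W : X.Opens, x ∈ W ∧ W ≤ V₂ ∧ W ⊓ X.basicOpen (a y) ≤ X.basicOpen r := fun y => by
    have hay : X.presheaf.germ V₂ x hxV₂ (a y) ∈ maximalIdeal _ :=
      germ_mem_maximalIdeal hxV₂ fun h => hxU (haU y h).2
    rw [OneDim.radical_span_eq_of_notMem hdim.le hfm hf] at hay
    obtain ⟨n, hn⟩ := hay
    obtain ⟨u, hu⟩ := Ideal.mem_span_singleton'.mp hn
    obtain ⟨W₁, hxW₁, w, hw⟩ := X.presheaf.exists_germ_eq u
    have he : X.presheaf.germ (V₂ ⊓ W₁) x ⟨hxV₂, hxW₁⟩ (rs inf_le_left (a y) ^ n) =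
        X.presheaf.germ (V₂ ⊓ W₁) x ⟨hxV₂, hxW₁⟩ (rs inf_le_right w * rs inf_le_left r) := by
      rw [map_pow, map_mul, X.presheaf.germ_res_apply, X.presheaf.germ_res_apply,
        X.presheaf.germ_res_apply, hw, hr, hu]
    obtain ⟨W, hxW, i, j, hW⟩ := X.presheaf.germ_eq x _ _ _ _ he
    refine ⟨W, hxW, i.le.trans inf_le_left, fun z hz => ?_⟩
    have h1 := congrArg (X.presheaf.germ W z hz.1) hW
    rw [X.presheaf.germ_res_apply, X.presheaf.germ_res_apply, map_pow, map_mul,
      X.presheaf.germ_res_apply, X.presheaf.germ_res_apply, X.presheaf.germ_res_apply] at h1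
    have h2 : IsUnit (X.presheaf.germ V₂ z ((i.le hz.1).1) (a y)) :=
      (X.mem_basicOpen _ z _).mp hz.2
    have h3 := h2.pow n
    rw [h1] at h3
    exact (X.mem_basicOpen _ z _).mpr (isUnit_of_mul_isUnit_right h3)
  choose W hxW hWV₂ hW using key
  obtain ⟨V, hV, hxV, hVle⟩ := exists_isAffineOpen_mem_and_subset (X := X) (x := x)
    (U := V₂ ⊓ t.inf W) ⟨hxV₂, by
      change x ∈ ((t.inf W : X.Opens) : Set X)
      rw [Opens.coe_finset_inf]
      exact Finset.inf_induction (p := fun S : Set X => x ∈ S) trivial (fun _ h _ h' => ⟨h, h'⟩)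
        fun y _ => hxW y⟩
  have hVV₂ : V ≤ V₂ := hVle.trans inf_le_left
  refine ⟨V, rs hVV₂ r, hV, hxV, hVV₂.trans (hV₂le.trans inf_le_left), ?_⟩
  rw [X.basicOpen_res r (homOfLE hVV₂).op]
  refine le_antisymm (inf_le_inf_left _ hrU) (le_inf inf_le_left fun z hz => ?_)
  obtain ⟨y, hy, hzy⟩ := Set.mem_iUnion₂.mp (ht ⟨hVV₂ hz.1, hz.2⟩)
  exact hW y ⟨(Finset.inf_le hy : t.inf W ≤ W y) ((hVle.trans inf_le_right) hz.1), hzy⟩

section

variable {U V : X.Opens} {x : X} {r : Γ(X, V)} (hxV : x ∈ V) (hrU : X.basicOpen r = V ⊓ U)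
  (hVU : ∀ y ∈ V, y ∉ U → y = x) (hxU : x ∉ U)

include hxU hrU in
lemma germ_r_mem : X.presheaf.germ V x hxV r ∈ maximalIdeal (X.presheaf.stalk x) :=
  germ_mem_maximalIdeal hxV fun h => hxU (hrU ▸ h).2

include hVU hrU in
/-- A prime containing the germ of `r` is the maximal ideal. -/
lemma eq_maximalIdeal_of_mem (P : Ideal (X.presheaf.stalk x)) [P.IsPrime]
    (h : X.presheaf.germ V x hxV r ∈ P) : P = maximalIdeal _ := by
  obtain ⟨y, hy, rfl⟩ := exists_point_of_prime P
  rw [RingHom.mem_ker, specEv_germ, Scheme.evaluation_eq_zero_iff_notMem_basicOpen, hrU] at h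
  have hyV : y ∈ V := hy.mem_open V.2 hxV
  obtain rfl := hVU y hyV fun hyU => h ⟨hyV, hyU⟩
  exact ker_specEv_self y

end

end Groth.Agent.DimOneAmple
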