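import Groth.Agent.DimOneAmple.Local
import Groth.Agent.SepCrit.Basic
import Groth.Agent.S1640

/-!
# Functions on an affine open with poles at finitely many points of height one outside it
-/

set_option autoImplicit false
set_option linter.style.haveILetI false
set_option backward.isDefEq.respectTransparency.types false

universe u

open CategoryTheory AlgebraicGeometry TopologicalSpace Opposite IsLocalRing Limits Filter

noncomputable section

namespace Groth.Agent.DimOneAmple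

variable {X : Scheme.{u}} {U : X.Opens}

/-- A neighbourhood of `x` avoiding the other points outside `U`. -/
lemma exists_avoid (hD : ((U : Set X)ᶜ).Finite) (hcl : ∀ x, x ∉ U → IsClosed ({x} : Set X)) (x : X) :
    ∃ V : X.Opens, x ∈ V ∧ ∀ y ∈ V, y ∉ U → y = x := by
  have hc : IsClosed (⋃ z ∈ (U : Set X)ᶜ \ {x}, ({z} : Set X)) :=
    hD.sdiff.isClosed_biUnion fun z hz => hcl z hz.1
  refine ⟨⟨_, hc.isOpen_compl⟩, ?_, fun y hy hyU => ?_⟩
  · intro hx
    obtain ⟨z, hz, rfl⟩ := Set.mem_iUnion₂.mp hx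
    exact hz.2 rfl
  · by_contra hne
    exact hy (Set.mem_iUnion₂.mpr ⟨y, ⟨hyU, hne⟩, rfl⟩)

/-- Functions of `U` and germs at `x` generate the residue field at a generization in `U`. -/
lemma range_evaluation_sup_eq_top [X.IsSeparated] (hU : IsAffineOpen U) {V : X.Opens}
    (hV : IsAffineOpen V) {x η : X} (hxV : x ∈ V) (hxU : x ∉ U) {r : Γ(X, V)}
    (hrU : X.basicOpen r = V ⊓ U) (hη : η ∈ U) (h : η ⤳ x)
    (hprime : ∀ (P : Ideal (X.presheaf.stalk x)) [P.IsPrime],
      P ∈ minimalPrimes (X.presheaf.stalk x) ∨ P = maximalIdeal (X.presheaf.stalk x)) :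
    (X.evaluation U η hη).hom.range ⊔ (specEv h).range = ⊤ := by
  set C := (X.evaluation U η hη).hom.range ⊔ (specEv h).range
  have hηV : η ∈ V := h.mem_open V.2 hxV
  have hρ : X.evaluation V η hηV r ≠ 0 :=
    (X.evaluation_ne_zero_iff_mem_basicOpen η hηV r).mpr (hrU ▸ ⟨hηV, hη⟩)
  have hcl := ((SepCrit.isSeparated_iff (f := terminal.from X) (fun W : X.affineOpens => W.1)
    (fun W => W.2) (iSup_affineOpens_eq_top X)).mp inferInstance ⟨U, hU⟩ ⟨V, hV⟩).2
  have hinv : (X.evaluation V η hηV r)⁻¹ ∈ C := by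
    have hu : IsUnit (rs (inf_le_right : U ⊓ V ≤ V) r) := by
      have h1 := RingedSpace.isUnit_res_basicOpen X.toRingedSpace r
      have h2 := h1.map (X.presheaf.map (homOfLE (show U ⊓ V ≤ X.basicOpen r by
        rw [hrU, inf_comm])).op).hom
      change IsUnit ((X.presheaf.map (homOfLE (X.basicOpen_le r)).op ≫
        X.presheaf.map (homOfLE _).op) r) at h2
      rw [← Functor.map_comp] at h2
      exact h2
    obtain ⟨w, hw⟩ := hu.exists_right_inv
    have hwC : w ∈ C.comap (X.evaluation (U ⊓ V) η ⟨hη, hηV⟩).hom := by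
      refine (Subring.closure_le.mpr ?_ : _ ≤ C.comap _) (hcl.ge (Subring.mem_top w))
      rintro _ (⟨a, rfl⟩ | ⟨a, rfl⟩)
      · change X.evaluation (U ⊓ V) η ⟨hη, hηV⟩ (rs (inf_le_left : U ⊓ V ≤ U) a) ∈ C
        rw [evaluation_rs]
        exact le_sup_left (a := (X.evaluation U η hη).hom.range) ⟨a, rfl⟩
      · change X.evaluation (U ⊓ V) η ⟨hη, hηV⟩ (rs (inf_le_right : U ⊓ V ≤ V) a) ∈ C
        rw [evaluation_rs]
        exact le_sup_right (a := (X.evaluation U η hη).hom.range)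
          ⟨X.presheaf.germ V x hxV a, specEv_germ h V hxV a⟩
    convert Subring.mem_comap.mp hwC
    refine inv_eq_of_mul_eq_one_right ?_
    have := congrArg (X.evaluation (U ⊓ V) η ⟨hη, hηV⟩).hom hw
    rwa [map_mul, map_one, evaluation_rs] at this
  refine eq_top_iff.mpr fun z _ => ?_
  obtain ⟨a, b, hb, rfl⟩ := exists_div_evaluation hV hηV z
  obtain ⟨n, w, hw⟩ := exists_pow_eq_mul (specEv h) hprime
    (b := X.presheaf.germ V x hxV b) (by rwa [specEv_germ])
    (germ_r_mem hxV hrU hxU)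
  rw [specEv_germ, specEv_germ] at hw
  have hr : ∀ t, specEv h t ∈ C := fun t => le_sup_right (a := (X.evaluation U η hη).hom.range) ⟨t, rfl⟩
  have heq : X.evaluation V η hηV a / X.evaluation V η hηV b =
      X.evaluation V η hηV a * specEv h w * (X.evaluation V η hηV r)⁻¹ ^ n := by
    rw [inv_pow, ← div_eq_mul_inv, div_eq_div_iff hb (pow_ne_zero _ hρ), hw]
    ring
  rw [heq]
  refine mul_mem (mul_mem ?_ (hr w)) (pow_mem hinv n)
  simpa [specEv_germ] using hr (X.presheaf.germ V x hxV a)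

/-- A function on `U` whose value at `η` has, at every point outside `U` in the closure of `η`, an
inverse in the maximal ideal. -/
lemma exists_inverse_value [X.IsSeparated] (hU : IsAffineOpen U) (hD : ((U : Set X)ᶜ).Finite)
    (hcl : ∀ x, x ∉ U → IsClosed ({x} : Set X))
    (hnoeth : ∀ x, x ∉ U → IsNoetherianRing (X.presheaf.stalk x))
    (hdim : ∀ x, x ∉ U → ringKrullDim (X.presheaf.stalk x) = 1) {η : X} (hη : η ∈ U) :
    ∃ a : Γ(X, U), X.evaluation U η hη a ≠ 0 ∧ ∀ x, x ∉ U → ∀ h : η ⤳ x,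
      ∃ c ∈ maximalIdeal (X.presheaf.stalk x), specEv h c * X.evaluation U η hη a = 1 := by
  classical
  let ι := {x : X // x ∉ U ∧ η ⤳ x}
  haveI := hD.to_subtype
  haveI : Finite ι := Finite.of_injective
    (fun x : ι => (⟨x.1, x.2.1⟩ : ((U : Set X)ᶜ : Set X))) fun x y hxy => by
      exact Subtype.ext (congrArg Subtype.val hxy :)
  let e := Finite.equivFin ι
  let K := X.residueField η
  let A : Subring K := (X.evaluation U η hη).hom.range
  let B : Fin (Nat.card ι) → Subring K := fun i => (specEv (e.symm i).2.2).range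
  haveI : IsFractionRing A K := IsFractionRing.of_field A K fun z => by
    obtain ⟨a, b, -, rfl⟩ := exists_div_evaluation hU hη z
    exact ⟨⟨_, a, rfl⟩, ⟨_, b, rfl⟩, rfl⟩
  haveI : ∀ i, IsFractionRing (B i) K := fun i => IsFractionRing.of_field (B i) K fun z => by
    obtain ⟨V, hV, hxV, -⟩ :=
      exists_isAffineOpen_mem_and_subset (X := X) (x := (e.symm i).1) (U := ⊤) trivial
    obtain ⟨a, b, -, rfl⟩ := exists_div_evaluation hV ((e.symm i).2.2.mem_open V.2 hxV) z
    exact ⟨⟨_, X.presheaf.germ V _ hxV a, specEv_germ _ V hxV a⟩,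
      ⟨_, X.presheaf.germ V _ hxV b, specEv_germ _ V hxV b⟩, rfl⟩
  haveI : ∀ i, IsNoetherianRing (B i) := fun i => by
    haveI := hnoeth _ (e.symm i).2.1
    exact isNoetherianRing_range _
  have hgen : ∀ i, A ⊔ B i = ⊤ := fun i => by
    haveI := hnoeth _ (e.symm i).2.1
    obtain ⟨V₀, hx₀, hV₀⟩ := exists_avoid hD hcl (e.symm i).1
    obtain ⟨V, r, hV, hxV, -, hrU⟩ := exists_local_eq (fun V hV => (hV.inf hU).isCompact) (e.symm i).2.1 (hdim _ (e.symm i).2.1) hx₀ hV₀
    exact range_evaluation_sup_eq_top hU hV hxV (e.symm i).2.1 hrU hη _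
      fun P _ => OneDim.mem_minimalPrimes_or_eq_maximalIdeal (hdim _ (e.symm i).2.1).le P
  have hloc : ∀ i, IsLocalRing (B i) := fun i =>
    IsLocalRing.of_surjective' _ (RingHom.rangeRestrict_surjective _)
  have hne : ∀ i, ¬ IsField (B i) := fun i hf => by
    haveI := hnoeth _ (e.symm i).2.1
    obtain ⟨V₀, hx₀, hV₀⟩ := exists_avoid hD hcl (e.symm i).1
    obtain ⟨V, r, hV, hxV, -, hrU⟩ := exists_local_eq (fun V hV => (hV.inf hU).isCompact) (e.symm i).2.1 (hdim _ (e.symm i).2.1) hx₀ hV₀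
    set f := specEv (e.symm i).2.2
    have hr : f (X.presheaf.germ V _ hxV r) ≠ 0 := by
      rw [specEv_germ, Scheme.evaluation_ne_zero_iff_mem_basicOpen, hrU]
      exact ⟨(e.symm i).2.2.mem_open V.2 hxV, hη⟩
    obtain ⟨⟨_, w, rfl⟩, hw⟩ := hf.mul_inv_cancel (a := ⟨_, X.presheaf.germ V _ hxV r, rfl⟩)
      fun h => hr (congrArg Subtype.val h)
    have h1 : X.presheaf.germ V _ hxV r * w - 1 ∈ RingHom.ker f := by
      rw [RingHom.mem_ker, map_sub, map_one, map_mul, sub_eq_zero]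
      exact congrArg Subtype.val hw
    have h2 := le_maximalIdeal (RingHom.ker_ne_top f) h1
    exact (maximalIdeal (X.presheaf.stalk (e.symm i).1)).ne_top_iff_one.mp
      (maximalIdeal.isMaximal _).ne_top (by simpa using sub_mem (Ideal.mul_mem_right w _ (germ_r_mem hxV hrU (e.symm i).2.1)) h2)
  have hdimB : ∀ i, ringKrullDim (B i) = 1 := fun i => by
    have hle : ringKrullDim (B i) ≤ 1 :=
      (ringKrullDim_le_of_surjective _ (RingHom.rangeRestrict_surjective _)).trans
        (hdim _ (e.symm i).2.1).le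
    refine le_antisymm hle (not_lt.mp fun hlt => hne i ?_)
    haveI : Ring.KrullDimLE 0 (B i) := Ring.krullDimLE_iff.mpr (by
      revert hlt
      induction ringKrullDim (B i) using WithBot.recBotCoe with
      | bot => exact fun _ => bot_le
      | coe n =>
        intro hlt
        have : n < 1 := WithBot.coe_lt_coe.mp hlt
        exact WithBot.coe_le_coe.mpr (Order.lt_one_iff.mp this).le)
    exact Ring.KrullDimLE.isField_of_isDomain
  have hsl : ∀ i, Finite (MaximalSpectrum (B i)) := fun i => by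
    haveI := hloc i
    infer_instance
  obtain ⟨z, ⟨a, rfl⟩, hz0, hz⟩ := S1640.result K A _ B hdimB hsl hgen
  have main : ∀ j : ι, ∃ c ∈ maximalIdeal (X.presheaf.stalk j.1),
      specEv j.2.2 c * X.evaluation U η hη a = 1 := fun j => by
    obtain ⟨i, rfl⟩ := e.symm.surjective j
    obtain ⟨hmem, hjac⟩ := hz i
    haveI := hloc i
    rw [IsLocalRing.jacobson_eq_maximalIdeal ⊥ bot_ne_top] at hjac
    obtain ⟨c, hc⟩ := id hmem
    refine ⟨c, fun hu => hjac ?_, by rw [hc]; exact inv_mul_cancel₀ hz0⟩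
    have := hu.map (specEv (e.symm i).2.2).rangeRestrict
    rwa [show (specEv (e.symm i).2.2).rangeRestrict c = (⟨_, hmem⟩ : B i) from Subtype.ext hc] at this
  exact ⟨a, hz0, fun x hx h => main ⟨x, hx, h⟩⟩

/-- A function on `U` nonvanishing at `η` and vanishing at the other given points. -/
lemma exists_separating (hU : IsAffineOpen U) (S : Finset X) (hSU : ∀ η ∈ S, η ∈ U)
    (hSmin : ∀ η ∈ S, ∀ η' ∈ S, η ⤳ η' → η = η') {η : X} (hη : η ∈ S) :
    ∃ h : Γ(X, U), η ∈ X.basicOpen h ∧ ∀ η' ∈ S, η' ≠ η → η' ∉ X.basicOpen h := by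
  classical
  have key : ∀ η', η' ∈ S → η' ≠ η → ∃ h : Γ(X, U), η ∈ X.basicOpen h ∧ η' ∉ X.basicOpen h := by
    intro η' hη' hne
    obtain ⟨O, hO, hηO, hη'O⟩ := not_specializes_iff_exists_open.mp
      fun h : η' ⤳ η => hne (hSmin η' hη' η hη h)
    obtain ⟨g, hgO, hg⟩ := hU.exists_basicOpen_le (V := ⟨O, hO⟩) ⟨η, hηO⟩ (hSU η hη)
    exact ⟨g, hg, fun h => hη'O (hgO h)⟩
  choose g hg hg' using key
  let g' : X → Γ(X, U) := fun η' => if h : η' ∈ S ∧ η' ≠ η then g η' h.1 h.2 else 1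
  refine ⟨∏ η' ∈ S, g' η', ?_, fun η' hη' hne => ?_⟩
  · rw [← Scheme.evaluation_ne_zero_iff_mem_basicOpen _ η (hSU η hη)]
    rw [map_prod, Finset.prod_ne_zero_iff]
    intro η' hη'
    rw [Scheme.evaluation_ne_zero_iff_mem_basicOpen]
    by_cases h : η' ∈ S ∧ η' ≠ η
    · simp only [g', dif_pos h]
      exact hg η' h.1 h.2
    · simp only [g', dif_neg h, X.basicOpen_one]
      exact hSU η hη
  · rw [← Scheme.evaluation_eq_zero_iff_notMem_basicOpen _ η' (hSU η' hη'), map_prod]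
    refine Finset.prod_eq_zero hη' ?_
    rw [Scheme.evaluation_eq_zero_iff_notMem_basicOpen]
    simp only [g', dif_pos (show η' ∈ S ∧ η' ≠ η from ⟨hη', hne⟩)]
    exact hg' η' hη' hne

/-- Large powers of `a` times `h` still have an inverse in the maximal ideal. -/
lemma eventually_exists_inverse {x η : X} (hη : η ∈ U) (hs : η ⤳ x)
    (hprime : ∀ (P : Ideal (X.presheaf.stalk x)) [P.IsPrime],
      P ∈ minimalPrimes (X.presheaf.stalk x) ∨ P = maximalIdeal (X.presheaf.stalk x))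
    {a h : Γ(X, U)} (hh : X.evaluation U η hη h ≠ 0)
    {c : X.presheaf.stalk x} (hc : c ∈ maximalIdeal (X.presheaf.stalk x))
    (hca : specEv hs c * X.evaluation U η hη a = 1) :
    ∀ᶠ N in atTop, ∃ c' ∈ maximalIdeal (X.presheaf.stalk x),
      specEv hs c' * (X.evaluation U η hη a ^ N * X.evaluation U η hη h) = 1 := by
  obtain ⟨V, hV, hxV, -⟩ := exists_isAffineOpen_mem_and_subset (X := X) (x := x) (U := ⊤) trivial
  obtain ⟨u, v, hv, huv⟩ := exists_div_evaluation hV (hs.mem_open V.2 hxV) (X.evaluation U η hη h)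
  have hu : X.evaluation V η (hs.mem_open V.2 hxV) u ≠ 0 := fun h0 => hh (by rw [huv, h0, zero_div])
  obtain ⟨n, w, hw⟩ := exists_pow_eq_mul (specEv hs) hprime
    (b := X.presheaf.germ V x hxV u) (by rwa [specEv_germ]) hc
  rw [specEv_germ] at hw
  refine eventually_atTop.mpr ⟨n + 1, fun N hN => ?_⟩
  obtain ⟨j, rfl⟩ := Nat.exists_eq_add_of_le hN
  refine ⟨c ^ (j + 1) * (w * X.presheaf.germ V x hxV v),
    Ideal.mul_mem_right _ _ (Ideal.pow_mem_of_mem _ hc _ (Nat.succ_pos _)), ?_⟩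
  rw [map_mul, map_mul, map_pow, specEv_germ, huv]
  field_simp
  calc _ = specEv hs c ^ (j + 1) * X.evaluation U η hη a ^ (n + 1 + j) *
      (X.evaluation V η (hs.mem_open V.2 hxV) u * specEv hs w) := by ring
    _ = (specEv hs c * X.evaluation U η hη a) ^ (n + 1 + j) := by rw [← hw]; ring
    _ = 1 := by rw [hca, one_pow]

/-- A function on `U` having at every point outside `U` an inverse vanishing there, defined near
that point. -/
theorem exists_pole [X.IsSeparated] (hU : IsAffineOpen U) (hD : ((U : Set X)ᶜ).Finite)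
    (hcl : ∀ x, x ∉ U → IsClosed ({x} : Set X))
    (hnoeth : ∀ x, x ∉ U → IsNoetherianRing (X.presheaf.stalk x))
    (hdim : ∀ x, x ∉ U → ringKrullDim (X.presheaf.stalk x) = 1)
    (S : Finset X) (hSU : ∀ η ∈ S, η ∈ U) (hSmin : ∀ η ∈ S, ∀ η' ∈ S, η ⤳ η' → η = η')
    (hS : ∀ x, x ∉ U → ∀ y, y ⤳ x → y ≠ x → y ∈ S) :
    ∃ f : Γ(X, U), ∀ x, x ∉ U → ∃ (V : X.Opens) (g : Γ(X, V)), x ∈ V ∧
      (∀ y ∈ V, y ∉ U → y = x) ∧ x ∉ X.basicOpen g ∧
      rs (inf_le_left : V ⊓ U ≤ V) g * rs (inf_le_right : V ⊓ U ≤ U) f = 1 := by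
  classical
  have hprime : ∀ x, x ∉ U → ∀ (P : Ideal (X.presheaf.stalk x)) [P.IsPrime],
      P ∈ minimalPrimes (X.presheaf.stalk x) ∨ P = maximalIdeal (X.presheaf.stalk x) :=
    fun x hx P _ => OneDim.mem_minimalPrimes_or_eq_maximalIdeal (hdim x hx).le P
  choose a ha0 ha using fun η : S =>
    exists_inverse_value hU hD hcl hnoeth hdim (hSU η.1 η.2)
  choose h hh hh' using fun η : S => exists_separating hU S hSU hSmin η.2
  have hev : ∀ (η : S), ∀ᶠ N in atTop, ∀ x ∈ (U : Set X)ᶜ, ∀ hs : η.1 ⤳ x,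
      ∃ c ∈ maximalIdeal (X.presheaf.stalk x), specEv hs c *
        (X.evaluation U η.1 (hSU η.1 η.2) (a η) ^ N * X.evaluation U η.1 (hSU η.1 η.2) (h η)) = 1 := by
    intro η
    refine (eventually_all_finite hD).mpr fun x hx => ?_
    by_cases hs : η.1 ⤳ x
    · obtain ⟨c, hc, hca⟩ := ha η x hx hs
      refine (eventually_exists_inverse (hSU η.1 η.2) hs (hprime x hx) ?_ hc hca).mono fun N hN _ => hN
      exact (X.evaluation_ne_zero_iff_mem_basicOpen _ _ _).mpr (hh η)
    · exact Eventually.of_forall fun N hs' => absurd hs' hs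
  obtain ⟨N, hN⟩ := (eventually_all.mpr hev).exists
  set f₀ : Γ(X, U) := ∑ η : S, a η ^ N * h η
  have hf₀ : ∀ η : S, X.evaluation U η.1 (hSU η.1 η.2) f₀ =
      X.evaluation U η.1 (hSU η.1 η.2) (a η) ^ N * X.evaluation U η.1 (hSU η.1 η.2) (h η) := fun η => by
    rw [map_sum, Finset.sum_eq_single η (fun η' _ hne => ?_) (fun h => absurd (Finset.mem_univ η) h),
      map_mul, map_pow]
    rw [map_mul]
    refine mul_eq_zero_of_right _ ?_
    exact (X.evaluation_eq_zero_iff_notMem_basicOpen _ _ _).mpr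
      (hh' η' η.1 η.2 fun e => hne (Subtype.ext e).symm)
  have hloc : ∀ x, x ∉ U → ∃ (V : X.Opens) (hxV : x ∈ V) (r : Γ(X, V)) (b : Γ(X, V)) (k M t : ℕ)
      (g : X.presheaf.stalk x), (∀ y ∈ V, y ∉ U → y = x) ∧ X.basicOpen r = V ⊓ U ∧
      rs (inf_le_left : V ⊓ U ≤ V) b =
        rs (inf_le_right : V ⊓ U ≤ U) f₀ * rs (inf_le_left : V ⊓ U ≤ V) r ^ k ∧
      0 < M ∧ g ∈ maximalIdeal (X.presheaf.stalk x) ∧
      X.presheaf.germ V x hxV r ^ t * (g * X.presheaf.germ V x hxV b ^ M) =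
        X.presheaf.germ V x hxV r ^ (t + k * M) := by
    intro x hx
    haveI := hnoeth x hx
    obtain ⟨V₀, hx₀, hV₀⟩ := exists_avoid hD hcl x
    obtain ⟨V, r, hV, hxV, hVV₀, hrU⟩ := exists_local_eq (fun V hV => (hV.inf hU).isCompact) hx (hdim x hx) hx₀ hV₀
    have hVU : ∀ y ∈ V, y ∉ U → y = x := fun y hy => hV₀ y (hVV₀ hy)
    letI := (X.presheaf.map (homOfLE (inf_le_left : V ⊓ U ≤ V)).op).hom.toAlgebra
    haveI : IsLocalization.Away r Γ(X, V ⊓ U) :=
      hV.isLocalization_of_eq_basicOpen r (homOfLE inf_le_left) hrU.symm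
    obtain ⟨k, b, hb⟩ := IsLocalization.Away.surj r (rs (inf_le_right : V ⊓ U ≤ U) f₀)
    set r' := X.presheaf.germ V x hxV r
    have hrm : r' ∈ maximalIdeal (X.presheaf.stalk x) := germ_r_mem hxV hrU hx
    have hmin : ∀ (P : Ideal (X.presheaf.stalk x)) [P.IsPrime], r' ∉ P → P ∈ minimalPrimes _ :=
      fun P _ hP => (hprime x hx P).resolve_right fun e => hP (e ▸ hrm)
    obtain ⟨M, t, g, hM, hg, heq⟩ := exists_inverse hrm hmin
      (fun P _ hP => eq_maximalIdeal_of_mem hxV hrU hVU P hP) (X.presheaf.germ V x hxV b) k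
      (fun P hP hrP => by
        haveI := hP.1.1
        obtain ⟨y, hy, rfl⟩ := exists_point_of_prime P
        have hyx : y ≠ x := by
          rintro rfl
          exact hrP (ker_specEv_self y ▸ hrm)
        have hyS := hS x hx y hy hyx
        obtain ⟨c, hc, hc'⟩ := hN ⟨y, hyS⟩ x hx hy
        refine ⟨c, hc, ?_⟩
        rw [← hf₀ ⟨y, hyS⟩] at hc'
        have hyV : y ∈ V := hy.mem_open V.2 hxV
        have hyU : y ∈ U := hSU y hyS
        have hbv := congrArg (X.evaluation (V ⊓ U) y ⟨hyV, hyU⟩).hom hb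
        rw [map_mul, map_pow, RingHom.algebraMap_toAlgebra] at hbv
        change X.evaluation (V ⊓ U) y _ (rs _ f₀) * X.evaluation (V ⊓ U) y _ (rs inf_le_left r) ^ k =
          X.evaluation (V ⊓ U) y _ (rs inf_le_left b) at hbv
        rw [evaluation_rs, evaluation_rs, evaluation_rs] at hbv
        rw [RingHom.mem_ker, map_sub, map_mul, map_pow, specEv_germ, specEv_germ, ← hbv, ← mul_assoc,
          hc', one_mul, sub_self])
    exact ⟨V, hxV, r, b, k, M, t, g, hVU, hrU, hb.symm, hM, hg, heq⟩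
  choose V hxV r b k M t g hVU hrU hb hM hg heq using hloc
  set Mt := ∏ x ∈ hD.toFinset.attach, M x.1 (hD.mem_toFinset.mp x.2)
  refine ⟨f₀ ^ Mt, fun x hx => ?_⟩
  obtain ⟨j, hj⟩ : M x hx ∣ Mt :=
    Finset.dvd_prod_of_mem _ (Finset.mem_attach _ ⟨x, hD.mem_toFinset.mpr hx⟩)
  have hMt : 0 < Mt := Finset.prod_pos fun y _ => hM _ _
  have hj0 : 0 < j := Nat.pos_of_mul_pos_left (hj ▸ hMt)
  obtain ⟨W₁, hxW₁, w, hw⟩ := X.presheaf.exists_germ_eq (g x hx ^ j)
  have he : X.presheaf.germ (V x hx ⊓ W₁) x ⟨hxV x hx, hxW₁⟩ (rs inf_le_left (r x hx) ^ (t x hx * j) *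
        (rs inf_le_right w * rs inf_le_left (b x hx) ^ Mt)) =
      X.presheaf.germ (V x hx ⊓ W₁) x ⟨hxV x hx, hxW₁⟩
        (rs inf_le_left (r x hx) ^ (t x hx * j + k x hx * Mt)) := by
    simp only [map_mul, map_pow, X.presheaf.germ_res_apply, hw]
    have := congrArg (· ^ j) (heq x hx)
    simp only [mul_pow, ← pow_mul, ← hj] at this
    rw [this, hj]
    ring
  obtain ⟨W, hxW, i, i', hW⟩ := X.presheaf.germ_eq x _ _ _ _ he
  have hle : W ≤ V x hx := i.le.trans inf_le_left
  have hle' : W ≤ W₁ := i.le.trans inf_le_right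
  refine ⟨W, rs hle' w, hxW, fun y hy => hVU x hx y (hle hy), ?_, ?_⟩
  · rw [X.mem_basicOpen _ x hxW, X.presheaf.germ_res_apply, hw]
    exact Ideal.pow_mem_of_mem _ (hg x hx) j hj0
  · set ψ : Γ(X, V x hx ⊓ U) →+* Γ(X, W ⊓ U) :=
      (X.presheaf.map (homOfLE (inf_le_inf_right U hle)).op).hom with hψ
    have hcomp : ∀ {A B C : X.Opens} (h₁ : C ≤ B) (h₂ : B ≤ A) (s : Γ(X, A)),
        rs h₁ (rs h₂ s) = rs (h₁.trans h₂) s := fun h₁ h₂ s => by
      change (X.presheaf.map (homOfLE h₂).op ≫ X.presheaf.map (homOfLE h₁).op) s = _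
      rw [← Functor.map_comp]
      rfl
    have h1 : rs (inf_le_left : W ⊓ U ≤ W) (X.presheaf.map i.op
        (rs inf_le_left (r x hx) ^ (t x hx * j) *
          (rs inf_le_right w * rs inf_le_left (b x hx) ^ Mt))) =
        rs (inf_le_left : W ⊓ U ≤ W) (X.presheaf.map i'.op
          (rs inf_le_left (r x hx) ^ (t x hx * j + k x hx * Mt))) := congrArg _ hW
    simp only [map_mul, map_pow] at h1
    rw [show ∀ s, X.presheaf.map i.op s = rs i.le s from fun s => rfl,
      show ∀ s, X.presheaf.map i.op s = rs i.le s from fun s => rfl,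
      show ∀ s, X.presheaf.map i.op s = rs i.le s from fun s => rfl,
      show ∀ s, X.presheaf.map i'.op s = rs i.le s from fun s => rfl] at h1
    simp only [hcomp] at h1
    have h2 := congrArg ψ (hb x hx)
    simp only [hψ, map_mul, map_pow] at h2
    change rs (inf_le_inf_right U hle) (rs inf_le_left (b x hx)) =
      rs (inf_le_inf_right U hle) (rs inf_le_right f₀) *
        rs (inf_le_inf_right U hle) (rs inf_le_left (r x hx)) ^ k x hx at h2
    simp only [hcomp] at h2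
    have hu : IsUnit (rs (inf_le_left.trans hle : W ⊓ U ≤ V x hx) (r x hx)) := by
      have h3 := (RingedSpace.isUnit_res_basicOpen X.toRingedSpace (r x hx)).map
        (X.presheaf.map (homOfLE (show W ⊓ U ≤ X.basicOpen (r x hx) by
          rw [hrU x hx]; exact inf_le_inf_right U hle)).op).hom
      change IsUnit (rs _ (rs (X.basicOpen_le (r x hx)) (r x hx))) at h3
      rwa [hcomp] at h3
    rw [h2, mul_pow, ← pow_mul, pow_add] at h1
    have h4 := (hu.pow (t x hx * j)).mul_left_cancel h1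
    rw [← mul_assoc] at h4
    have h5 := (hu.pow (k x hx * Mt)).mul_eq_right.mp h4
    change rs _ (rs hle' w) * rs _ (f₀ ^ Mt) = 1
    have h6 := map_pow (X.presheaf.map (homOfLE (inf_le_right : W ⊓ U ≤ U)).op).hom f₀ Mt
    exact (congrArg₂ (· * ·) (hcomp _ _ w) h6).trans h5

end Groth.Agent.DimOneAmple
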