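import Groth.Agent.DimOneAmple.Main
import Groth.Agent.DimOneAmple.Line
import Groth.Agent.DimOneAmple.Completion
import Groth.Agent.CurveCoh.Finite

/-!
# The complement of a point of a proper curve is affine
-/

set_option autoImplicit false
set_option linter.style.haveILetI false
set_option backward.isDefEq.respectTransparency.types false

universe u

open CategoryTheory CategoryTheory.Limits AlgebraicGeometry TopologicalSpace IsLocalRing

noncomputable section

namespace Groth.Agent.DimOneAmple

open Groth.Agent.CurveCoh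

variable {X : Scheme.{u}} [IsIntegral X]

/-- `g` has a pole at `x`: its inverse is a germ vanishing at `x`. -/
def Pole (g : X.functionField) (x : X) : Prop :=
  ∃ a ∈ maximalIdeal (X.presheaf.stalk x), algebraMap (X.presheaf.stalk x) X.functionField a * g = 1

lemma Pole.ne_zero {g : X.functionField} {x : X} (h : Pole g x) : g ≠ 0 := by
  obtain ⟨a, -, ha⟩ := h
  rintro rfl
  simp at ha

lemma Pole.not_isReg {g : X.functionField} {x : X} (h : Pole g x) : ¬ IsReg g x := by
  rintro ⟨z, rfl⟩
  obtain ⟨a, ha, he⟩ := h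
  rw [← map_mul, ← map_one (algebraMap (X.presheaf.stalk x) X.functionField)] at he
  exact ha (IsUnit.of_mul_eq_one z (IsFractionRing.injective _ _ he))

lemma Pole.isReg_inv {g : X.functionField} {x : X} (h : Pole g x) : IsReg g⁻¹ x := by
  obtain ⟨a, -, ha⟩ := h
  exact ⟨a, eq_inv_of_mul_eq_one_left ha⟩

/-- Sections over `W` from regularity at its points. -/
lemma exists_section {W : X.Opens} (hW : genericPoint X ∈ W) {g : X.functionField}
    (h : ∀ x ∈ W, IsReg g x) : ∃ s : Γ(X, W), X.presheaf.germ W (genericPoint X) hW s = g := by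
  refine ⟨X.presheaf.map (homOfLE (show W ≤ regLocus g from h)).op (regSection g), ?_⟩
  rw [TopCat.Presheaf.germ_res_apply', germ_regSection]

lemma isReg_germ {W : X.Opens} {x : X} (hx : x ∈ W) (s : Γ(X, W)) :
    IsReg (X.presheaf.germ W (genericPoint X) (genericPoint_mem hx) s) x :=
  ⟨_, algebraMap_germ x hx s⟩

lemma regLocus_eq_of_pole {g : X.functionField} {U : X.Opens} (h₁ : ∀ x ∈ U, IsReg g x)
    (h₂ : ∀ x, x ∉ U → Pole g x) :
    regLocus g = U ∧ regLocus g ⊔ regLocus g⁻¹ = ⊤ := by
  refine ⟨le_antisymm (fun x hx => by_contra fun hxU => (h₂ x hxU).not_isReg hx) h₁,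
    eq_top_iff.mpr fun x _ => ?_⟩
  by_cases hx : x ∈ U
  · exact Or.inl (h₁ x hx)
  · exact Or.inr (h₂ x hx).isReg_inv

section Field

variable (k : Type u) [Field k] [X.Over (Spec (CommRingCat.of k))]

/-- The function field as an algebra over the base field. -/
abbrev kAlg : Algebra k X.functionField := (kFun (X := X) k).toAlgebra

lemma isReg_algebraMap (c : k) (x : X) :
    letI := kAlg (X := X) k
    IsReg (algebraMap k X.functionField c) x := by
  letI := kAlg (X := X) k
  rw [RingHom.algebraMap_toAlgebra, ← germ_kMap k (⊤ : X.Opens) trivial c]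
  exact isReg_germ (W := ⊤) trivial _

/-- The rational functions regular on `W`. -/
def regMod (W : X.Opens) : letI := kAlg (X := X) k; Subalgebra k X.functionField :=
  letI := kAlg (X := X) k
  { carrier := {g | ∀ x ∈ W, IsReg g x}
    mul_mem' := fun {a b} ha hb x hx => by
      obtain ⟨z, hz⟩ := ha x hx
      obtain ⟨w, hw⟩ := hb x hx
      exact ⟨z * w, by rw [map_mul, hz, hw]⟩
    add_mem' := fun {a b} ha hb x hx => by
      obtain ⟨z, hz⟩ := ha x hx
      obtain ⟨w, hw⟩ := hb x hx
      exact ⟨z + w, by rw [map_add, hz, hw]⟩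
    algebraMap_mem' := fun c x _ => isReg_algebraMap k c x }

lemma mem_regMod {W : X.Opens} {g : X.functionField} :
    g ∈ regMod k W ↔ ∀ x ∈ W, IsReg g x := Iff.rfl

omit [X.Over (Spec (CommRingCat.of k))] in
/-- Localisation at a function. -/
lemma exists_pow_mul_isReg {v g : X.functionField} (hv : v ≠ 0) (haff : IsAffineOpen (regLocus v))
    (h : ∀ x ∈ regLocus v, IsReg v⁻¹ x → IsReg g x) :
    ∃ m : ℕ, ∀ x ∈ regLocus v, IsReg (v ^ m * g) x := by
  set O := regLocus v ⊓ regLocus v⁻¹
  have hO : genericPoint X ∈ O := ⟨genericPoint_mem_regLocus v, genericPoint_mem_regLocus _⟩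
  obtain ⟨s, hs⟩ := exists_section hO (g := g) fun x hx => h x hx.1 hx.2
  letI := (X.presheaf.map (homOfLE (inf_le_left : O ≤ regLocus v)).op).hom.toAlgebra
  haveI : IsLocalization.Away (regSection v) Γ(X, O) :=
    haff.isLocalization_of_eq_basicOpen _ (homOfLE inf_le_left) (regLocus_inf_inv hv)
  obtain ⟨m, a, ha⟩ := IsLocalization.Away.surj (regSection v) s
  refine ⟨m, fun x hx => ?_⟩
  have h1 := congrArg (X.presheaf.germ O (genericPoint X) hO) ha
  rw [map_mul, map_pow, RingHom.algebraMap_toAlgebra] at h1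
  change _ * (X.presheaf.germ O _ hO (X.presheaf.map _ (regSection v))) ^ m =
    X.presheaf.germ O _ hO (X.presheaf.map _ a) at h1
  rw [TopCat.Presheaf.germ_res_apply, TopCat.Presheaf.germ_res_apply, germ_regSection, hs] at h1
  rw [mul_comm, h1]
  exact isReg_germ hx a

/-- A rational function with a pole is transcendental. -/
lemma isTransc_of_pole {g : X.functionField} {x : X} (h : Pole g x) : IsTransc k g := by
  intro p hp
  by_contra hne
  obtain ⟨a, ha, he⟩ := h
  let ι := algebraMap (X.presheaf.stalk x) X.functionField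
  have hg : g = (ι a)⁻¹ := eq_inv_of_mul_eq_one_right he
  have h0 : ι a ≠ 0 := left_ne_zero_of_mul_eq_one he
  let φ : k →+* X.presheaf.stalk x :=
    (X.presheaf.germ ⊤ x trivial).hom.comp (kMap k (⊤ : X.Opens))
  have hφ : ι.comp φ = kFun (X := X) k := by
    ext c
    exact (algebraMap_germ x (W := ⊤) trivial (kMap k ⊤ c)).trans (germ_kMap k _ _ c)
  haveI : Invertible g := invertibleOfNonzero (by rw [hg]; exact inv_ne_zero h0)
  have h1 := Polynomial.eval₂_reverse_mul_pow (kFun (X := X) k) g p
  rw [hp, invOf_eq_inv, hg, inv_inv] at h1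
  have h2 : Polynomial.eval₂ (kFun (X := X) k) (ι a) p.reverse = 0 :=
    (mul_eq_zero.mp h1).resolve_right (pow_ne_zero _ (inv_ne_zero h0))
  rw [← hφ, ← Polynomial.hom_eval₂, map_eq_zero_iff _ (IsFractionRing.injective _ _)] at h2
  have h3 := congrArg (residue (X.presheaf.stalk x)) h2
  rw [Polynomial.hom_eval₂, map_zero, (residue_eq_zero_iff a).mpr ha, Polynomial.eval₂_at_zero,
    Polynomial.coeff_zero_reverse, map_eq_zero_iff _ (RingHom.injective _)] at h3
  exact hne (Polynomial.leadingCoeff_eq_zero.mp h3)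

/-- A polynomial of positive degree in a function with a pole has a pole. -/
lemma pole_eval {g : X.functionField} {x : X} (h : Pole g x) (P : Polynomial k) (hP : P ≠ 0) :
    Pole (Polynomial.eval₂ (kFun (X := X) k) g (P * Polynomial.X)) x := by
  obtain ⟨a, ha, he⟩ := h
  let ι := algebraMap (X.presheaf.stalk x) X.functionField
  have hg : g = (ι a)⁻¹ := eq_inv_of_mul_eq_one_right he
  have h0 : ι a ≠ 0 := left_ne_zero_of_mul_eq_one he
  let φ : k →+* X.presheaf.stalk x :=
    (X.presheaf.germ ⊤ x trivial).hom.comp (kMap k (⊤ : X.Opens))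
  have hφ : ι.comp φ = kFun (X := X) k := by
    ext c
    exact (algebraMap_germ x (W := ⊤) trivial (kMap k ⊤ c)).trans (germ_kMap k _ _ c)
  set p := P * Polynomial.X
  have hp : p ≠ 0 := mul_ne_zero hP Polynomial.X_ne_zero
  have hd : 0 < p.natDegree := by
    rw [Polynomial.natDegree_mul_X hP]; exact Nat.succ_pos _
  obtain ⟨r, hr⟩ : IsUnit (Polynomial.eval₂ φ a p.reverse) := by
    by_contra hn
    have h3 : residue (X.presheaf.stalk x) (Polynomial.eval₂ φ a p.reverse) = 0 :=
      (residue_eq_zero_iff _).mpr hn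
    rw [Polynomial.hom_eval₂, (residue_eq_zero_iff a).mpr ha, Polynomial.eval₂_at_zero,
      Polynomial.coeff_zero_reverse, map_eq_zero_iff _ (RingHom.injective _)] at h3
    exact hp (Polynomial.leadingCoeff_eq_zero.mp h3)
  haveI : Invertible g := invertibleOfNonzero (by rw [hg]; exact inv_ne_zero h0)
  have h1 := Polynomial.eval₂_reverse_mul_pow (kFun (X := X) k) g p
  rw [invOf_eq_inv, show g⁻¹ = ι a by rw [hg, inv_inv], ← hφ, ← Polynomial.hom_eval₂, ← hr, hg] at h1
  refine ⟨a ^ p.natDegree * ((r⁻¹ : (X.presheaf.stalk x)ˣ) : X.presheaf.stalk x),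
    Ideal.mul_mem_right _ _ (Ideal.pow_mem_of_mem _ ha _ hd), ?_⟩
  change ι _ * _ = 1
  rw [← hφ, hg, ← h1, map_mul, map_pow, inv_pow]
  calc _ = ι a ^ p.natDegree * (ι a ^ p.natDegree)⁻¹ *
        (ι ((r⁻¹ : (X.presheaf.stalk x)ˣ) : X.presheaf.stalk x) * ι (r : X.presheaf.stalk x)) := by ring
    _ = 1 := by rw [← map_mul, Units.inv_mul, map_one, mul_one, mul_inv_cancel₀ (pow_ne_zero _ h0)]

variable [IsProper (X ↘ Spec (CommRingCat.of k))]

omit [IsIntegral X] in
lemma isSeparated_of_proper (k : Type u) [Field k] [X.Over (Spec (CommRingCat.of k))]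
    [IsProper (X ↘ Spec (CommRingCat.of k))] : X.IsSeparated := by
  haveI : IsSeparated ((X ↘ Spec (CommRingCat.of k)) ≫ terminal.from _) := inferInstance
  exact ⟨terminal.hom_ext (terminal.from X) ((X ↘ Spec (CommRingCat.of k)) ≫ terminal.from _) ▸ this⟩

/-- For a two-affine cover by regular loci, the first cohomology is finite-dimensional. -/
lemma exists_finite_coker (hdim : topologicalKrullDim X = 1) (F : X.functionField)
    (hsup : regLocus F ⊔ regLocus F⁻¹ = ⊤) (hF : IsTransc k F) :
    letI := kAlg (X := X) k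
    ∃ T : Set X.functionField, T.Finite ∧
      ∀ g ∈ regMod k (regLocus F ⊓ regLocus F⁻¹),
        g ∈ Submodule.span k T ⊔ (regMod k (regLocus F)).toSubmodule ⊔
          (regMod k (regLocus F⁻¹)).toSubmodule := by
  letI := kAlg (X := X) k
  classical
  have hF0 : F ≠ 0 := hF.ne_zero
  set v := F⁻¹ with hv
  have hv0 : v ≠ 0 := inv_ne_zero hF0
  have hFv : F * v = 1 := mul_inv_cancel₀ hF0
  have hsup' : regLocus v ⊔ regLocus v⁻¹ = ⊤ := by rw [hv, inv_inv, sup_comm]; exact hsup
  have haff0 : IsAffineOpen (regLocus F) := by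
    haveI := Line.isFinite_toLine k hdim F hsup hF
    exact isAffine_of_isAffineHom (toLine k F)
  have haff : IsAffineOpen (regLocus v) := by
    haveI := Line.isFinite_toLine k hdim v hsup' hF.inv
    exact isAffine_of_isAffineHom (toLine k v)
  have hfin := Line.finite_polyMap k hdim v hsup' hF.inv
  letI := (polyMap k v).hom.toAlgebra
  haveI : Module.Finite (Polynomial k) Γ(X, regLocus v) := hfin
  obtain ⟨G, hG⟩ := (inferInstance : Module.Finite (Polynomial k) Γ(X, regLocus v)).fg_top
  let γ : Γ(X, regLocus v) →+* X.functionField :=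
    (X.presheaf.germ (regLocus v) (genericPoint X) (genericPoint_mem_regLocus v)).hom
  have hreg : ∀ e, γ e ∈ regMod k (regLocus v) := fun e x hx => isReg_germ hx e
  -- high powers of `F` push the generators into the other chart
  have hN : ∀ e, ∃ N : ℕ, ∀ x ∈ regLocus F, IsReg (F ^ N * γ e) x := fun e =>
    exists_pow_mul_isReg (v := F) hF0 haff0 fun x _ hx => hreg e x hx
  choose N hN using hN
  let T : Set X.functionField := ⋃ e ∈ G, (fun i => F ^ i * γ e) '' Set.Iio (N e)
  refine ⟨T, (G.finite_toSet.biUnion fun e _ => (Set.finite_Iio _).image _), fun g hg => ?_⟩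
  set Z := Submodule.span k T ⊔ (regMod k (regLocus F)).toSubmodule ⊔
    (regMod k (regLocus v)).toSubmodule
  obtain ⟨m, hm⟩ := exists_pow_mul_isReg (v := v) hv0 haff (g := g) fun x hx hx' =>
    hg x ⟨by rw [hv, inv_inv] at hx'; exact hx', hx⟩
  obtain ⟨s, hs⟩ := exists_section (genericPoint_mem_regLocus v) hm
  have key : ∀ s : Γ(X, regLocus v), ∀ m : ℕ, F ^ m * γ s ∈ Z := by
    intro s
    have hs : s ∈ Submodule.span (Polynomial k) (G : Set Γ(X, regLocus v)) := hG ▸ trivial
    induction hs using Submodule.span_induction with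
    | zero => intro m; rw [map_zero, mul_zero]; exact zero_mem _
    | add a b _ _ h h' => intro m; rw [map_add, mul_add]; exact add_mem (h m) (h' m)
    | mem e he =>
      intro m
      rcases lt_or_ge m (N e) with h | h
      · exact Submodule.mem_sup_left (Submodule.mem_sup_left (Submodule.subset_span
          (Set.mem_biUnion he ⟨m, h, rfl⟩)))
      · obtain ⟨d, rfl⟩ := Nat.exists_eq_add_of_le h
        refine Submodule.mem_sup_left (Submodule.mem_sup_right ?_)
        rw [Subalgebra.mem_toSubmodule, pow_add, mul_comm (F ^ N e), mul_assoc]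
        exact mul_mem (pow_mem (show F ∈ regMod k (regLocus F) from fun x hx => hx) d) (fun x hx => hN e x hx)
    | smul p a _ h =>
      intro m
      rw [Algebra.smul_def, RingHom.algebraMap_toAlgebra, map_mul,
        show γ ((polyMap k v).hom p) = _ from germ_polyMap k v p, Polynomial.eval₂_eq_sum,
        Polynomial.sum_def, Finset.sum_mul, Finset.mul_sum]
      refine Submodule.sum_mem _ fun j _ => ?_
      have he : F ^ m * (kFun (X := X) k (p.coeff j) * v ^ j * γ a) =
          p.coeff j • (F ^ m * v ^ j * γ a) := by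
        rw [Algebra.smul_def, RingHom.algebraMap_toAlgebra]; ring
      rw [he]
      refine Submodule.smul_mem _ _ ?_
      rcases le_or_gt j m with hj | hj
      · obtain ⟨d, rfl⟩ := Nat.exists_eq_add_of_le hj
        rw [show F ^ (j + d) * v ^ j = F ^ d by
          rw [pow_add, mul_right_comm, ← mul_pow, hFv, one_pow, one_mul]]
        exact h d
      · obtain ⟨d, rfl⟩ := Nat.exists_eq_add_of_le hj.le
        refine Submodule.mem_sup_right ?_
        rw [Subalgebra.mem_toSubmodule, show F ^ m * v ^ (m + d) = v ^ d by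
          rw [pow_add, ← mul_assoc, ← mul_pow, hFv, one_pow, one_mul]]
        exact mul_mem (pow_mem (show v ∈ regMod k (regLocus v) from fun x hx => hx) d) (hreg a)
  have := key s m
  rwa [show γ s = v ^ m * g from hs, ← mul_assoc, ← mul_pow, hFv, one_pow, one_mul] at this

include k in
/-- The complement of a closed point of a proper curve is affine. -/
theorem isAffineOpen_compl_singleton (hdim : topologicalKrullDim X = 1) {y : X}
    (hy : IsClosed ({y} : Set X)) : IsAffineOpen (⟨{y}ᶜ, hy.isOpen_compl⟩ : X.Opens) := by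
  classical
  letI := kAlg (X := X) k
  haveI := isSeparated_of_proper (X := X) k
  haveI : IsLocallyNoetherian X := LocallyOfFiniteType.isLocallyNoetherian (X ↘ Spec (CommRingCat.of k))
  haveI : CompactSpace X := QuasiCompact.compactSpace_of_compactSpace (X ↘ Spec (CommRingCat.of k))
  haveI : IsNoetherian X := {}
  have hgen : genericPoints X = {genericPoint X} := genericPoints_eq_singleton
  have hyη : y ≠ genericPoint X := fun e => by
    haveI : Subsingleton X := by
      refine ⟨fun a b => ?_⟩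
      have h : ∀ a : X, a = y := fun a => Set.mem_singleton_iff.mp (hy.closure_eq ▸
        specializes_iff_mem_closure.mp (e ▸ (genericPoint_spec X).specializes trivial))
      rw [h a, h b]
    have h0 : topologicalKrullDim X ≤ 0 := by
      rw [VarDim.topologicalKrullDim_eq_krullDim]
      exact Order.krullDim_nonpos_of_subsingleton
    rw [hdim] at h0
    exact absurd h0 (by decide)
  -- an affine open missing `y`
  obtain ⟨U, hU, hηU, hUle⟩ := exists_isAffineOpen_mem_and_subset (X := X) (x := genericPoint X)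
    (U := ⟨{y}ᶜ, hy.isOpen_compl⟩) (fun h => hyη (Set.mem_singleton_iff.mp h).symm)
  have hyU : y ∉ U := fun h => hUle h rfl
  have hgU : genericPoints X ⊆ (U : Set X) := by rw [hgen]; exact Set.singleton_subset_iff.mpr hηU
  obtain ⟨hfin, hd⟩ := finite_compl_and_dim hdim.le hgU
  have hd1 : ∀ z : X, z ≠ genericPoint X → ringKrullDim (X.presheaf.stalk z) = 1 := fun z hz =>
    (finite_compl_and_dim hdim.le (U := ⟨{z}ᶜ, (isClosed_singleton_of_dim_le_one hdim.le
      (fun h => hz (Set.mem_singleton_iff.mp (hgen.le h)))).isOpen_compl⟩)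
      (fun η hη (h : η = z) => hz (h ▸ Set.mem_singleton_iff.mp (hgen.le hη)))).2 z (fun h => h rfl)
  have hprime : ∀ z : X, z ≠ genericPoint X → ∀ (P : Ideal (X.presheaf.stalk z)) [P.IsPrime],
      P ∈ minimalPrimes (X.presheaf.stalk z) ∨ P = maximalIdeal _ := fun z hz P _ =>
    OneDim.mem_minimalPrimes_or_eq_maximalIdeal (hd1 z hz).le P
  have hcl : ∀ x, x ∉ U → IsClosed ({x} : Set X) := fun x hx =>
    isClosed_singleton_of_dim_le_one hdim.le fun h => hx (hgU h)
  obtain ⟨f, hf⟩ := exists_pole hU hfin hcl (fun _ _ => inferInstance) hd {genericPoint X}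
    (fun η hη => by rw [Finset.mem_singleton.mp hη]; exact hηU)
    (fun η hη η' hη' _ => (Finset.mem_singleton.mp hη).trans (Finset.mem_singleton.mp hη').symm)
    (fun x hx z hz hne => by
      rw [Finset.mem_singleton, ← Set.mem_singleton_iff, ← hgen]
      exact mem_genericPoints_iff.mpr fun z' h' => maximal_of_specializes hz hne (hd x hx).le h')
  set F := X.presheaf.germ U (genericPoint X) hηU f
  have hpole : ∀ x, x ∉ U → Pole F x := fun x hx => by
    obtain ⟨V, g, hxV, -, hxg, hgf⟩ := hf x hx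
    refine ⟨_, germ_mem_maximalIdeal hxV hxg, ?_⟩
    rw [algebraMap_germ x hxV]
    have h := congrArg (X.presheaf.germ (V ⊓ U) (genericPoint X) ⟨genericPoint_mem hxV, hηU⟩) hgf
    rw [map_mul, map_one, TopCat.Presheaf.germ_res_apply, TopCat.Presheaf.germ_res_apply] at h
    exact h
  obtain ⟨hFU, hsup⟩ := regLocus_eq_of_pole (g := F) (fun x hx => isReg_germ hx f) hpole
  have hF : IsTransc k F := isTransc_of_pole k (hpole y hyU)
  obtain ⟨T, hT, hTg⟩ := exists_finite_coker k hdim F hsup hF
  -- a function on the second chart with a pole only at `y`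
  set W := regLocus F⁻¹
  have hyW : y ∈ W := (hpole y hyU).isReg_inv
  have haff : IsAffineOpen W := by
    haveI := Line.isFinite_toLine k hdim F⁻¹ (by rw [inv_inv, sup_comm]; exact hsup) hF.inv
    exact isAffine_of_isAffineHom (toLine k F⁻¹)
  have hηW : genericPoint X ∈ W := genericPoint_mem_regLocus _
  let a : Γ(X, W) := regSection F⁻¹
  have hFinv : ∀ x, x ∉ U → ∀ hx : x ∈ W, x ∉ X.basicOpen a := fun x hxU hx h => by
    rw [← regLocus_inf_inv (inv_ne_zero hF.ne_zero), inv_inv] at h
    exact (hpole x hxU).not_isReg h.2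
  let Zs : Finset X := hfin.toFinset
  obtain ⟨b, hby, hb⟩ : ∃ b : Γ(X, W), y ∈ X.basicOpen b ∧
      ∀ z ∈ Zs.filter (· ∈ W), z ≠ y → z ∉ X.basicOpen b :=
    exists_separating haff (Zs.filter (· ∈ W)) (fun z hz => (Finset.mem_filter.mp hz).2)
      (fun z hz z' _ h => (Set.mem_singleton_iff.mp ((hcl z (hfin.mem_toFinset.mp
        (Finset.mem_filter.mp hz).1)).closure_eq ▸ specializes_iff_mem_closure.mp h)).symm)
      (Finset.mem_filter.mpr ⟨hfin.mem_toFinset.mpr hyU, hyW⟩)
  set A := X.presheaf.germ W (genericPoint X) hηW a with hA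
  set B := X.presheaf.germ W (genericPoint X) hηW b
  have hA0 : A ≠ 0 := by rw [hA, germ_regSection]; exact inv_ne_zero hF.ne_zero
  have hn : ∀ z, z ∈ Zs.filter (· ∈ W) → z ≠ y → ∃ n : ℕ, IsReg (B ^ n / A) z := fun z hz hzy => by
    have hzW := (Finset.mem_filter.mp hz).2
    have hzU : z ∉ U := hfin.mem_toFinset.mp (Finset.mem_filter.mp hz).1
    obtain ⟨n, w, hw⟩ := exists_pow_eq_mul (algebraMap (X.presheaf.stalk z) X.functionField)
      (hprime z fun h => hzU (h ▸ hηU)) (b := X.presheaf.germ W z hzW a)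
      (by rw [algebraMap_germ z hzW]; exact hA0) (germ_mem_maximalIdeal hzW (hb z hz hzy))
    rw [algebraMap_germ z hzW, algebraMap_germ z hzW] at hw
    exact ⟨n, w, by rw [eq_div_iff hA0, mul_comm]; exact hw.symm⟩
  choose! n hn using hn
  set M := (Zs.filter (· ∈ W)).sup n
  set g₀ := B ^ M / A
  have hpole₀ : Pole g₀ y := by
    obtain ⟨r, hr⟩ := ((X.mem_basicOpen b y hyW).mp hby).pow M
    refine ⟨X.presheaf.germ W y hyW a * ((r⁻¹ : (X.presheaf.stalk y)ˣ) : X.presheaf.stalk y),
      Ideal.mul_mem_right _ _ (germ_mem_maximalIdeal hyW (hFinv y hyU hyW)), ?_⟩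
    rw [map_mul, algebraMap_germ y hyW, show g₀ = algebraMap (X.presheaf.stalk y) X.functionField r / A by
      rw [hr, map_pow, algebraMap_germ y hyW]]
    rw [mul_div_assoc', mul_assoc, ← map_mul, Units.inv_mul, map_one, mul_one, div_self hA0]
  have hg₀ : ∀ z ∈ W, z ≠ y → IsReg g₀ z := fun z hzW hzy => by
    by_cases hz : z ∈ X.basicOpen a
    · obtain ⟨r, hr⟩ := (X.mem_basicOpen a z hzW).mp hz
      refine ⟨X.presheaf.germ W z hzW b ^ M * ((r⁻¹ : (X.presheaf.stalk z)ˣ) : X.presheaf.stalk z), ?_⟩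
      rw [map_mul, map_pow, algebraMap_germ z hzW, map_units_inv, hr, algebraMap_germ z hzW]
      exact (div_eq_mul_inv _ _).symm
    · have hzU : z ∉ U := fun h => hz (by
        rw [← regLocus_inf_inv (inv_ne_zero hF.ne_zero), inv_inv]
        exact ⟨hzW, hFU.ge h⟩)
      have hzs : z ∈ Zs.filter (· ∈ W) := Finset.mem_filter.mpr ⟨hfin.mem_toFinset.mpr hzU, hzW⟩
      obtain ⟨w, hw⟩ := hn z hzs hzy
      obtain ⟨d, hd⟩ := Nat.exists_eq_add_of_le (show n z ≤ M from Finset.le_sup hzs)
      refine ⟨w * X.presheaf.germ W z hzW b ^ d, ?_⟩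
      rw [map_mul, map_pow, algebraMap_germ z hzW, hw]
      change _ = B ^ M / A
      rw [hd, pow_add, div_mul_eq_mul_div]
  have hg₀O : g₀ ∈ regMod k (regLocus F ⊓ regLocus F⁻¹) := fun z hz =>
    hg₀ z hz.2 fun e => hyU (e ▸ hFU.le hz.1)
  -- finite dimensionality gives a polynomial in `g₀` that splits
  obtain ⟨P, hP, hPmem⟩ : ∃ P : Polynomial k, P ≠ 0 ∧ Polynomial.aeval g₀ (P * Polynomial.X) ∈
      (regMod k (regLocus F)).toSubmodule ⊔ (regMod k (regLocus F⁻¹)).toSubmodule := by
    set Z := (regMod k (regLocus F)).toSubmodule ⊔ (regMod k (regLocus F⁻¹)).toSubmodule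
    let φ : Polynomial k →ₗ[k] X.functionField ⧸ Z :=
      Z.mkQ ∘ₗ (Polynomial.aeval g₀).toLinearMap ∘ₗ LinearMap.mulRight k Polynomial.X
    haveI : FiniteDimensional k (Submodule.span k (Z.mkQ '' T)) :=
      FiniteDimensional.span_of_finite k (hT.image _)
    have hrange : ∀ P, φ P ∈ Submodule.span k (Z.mkQ '' T) := fun P => by
      have h1 : Polynomial.aeval g₀ (P * Polynomial.X) ∈ regMod k (regLocus F ⊓ regLocus F⁻¹) := by
        have := (Polynomial.aeval (⟨g₀, hg₀O⟩ : regMod k (regLocus F ⊓ regLocus F⁻¹))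
          (P * Polynomial.X)).2
        rwa [Polynomial.aeval_subalgebra_coe] at this
      have h2 := hTg _ h1
      rw [sup_assoc] at h2
      obtain ⟨t, ht, z, hz, hsum⟩ := Submodule.mem_sup.mp h2
      change Z.mkQ (Polynomial.aeval g₀ (P * Polynomial.X)) ∈ _
      rw [← hsum, map_add, show Z.mkQ z = 0 from (Submodule.Quotient.mk_eq_zero Z).mpr hz, add_zero,
        ← Submodule.map_span]
      exact Submodule.mem_map_of_mem ht
    by_contra hne
    push Not at hne
    have hinj : Function.Injective (φ.codRestrict _ hrange) := by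
      rw [injective_iff_map_eq_zero]
      intro P hP
      by_contra h
      exact hne P h ((Submodule.Quotient.mk_eq_zero Z).mp (congrArg Subtype.val hP))
    exact Polynomial.not_finite (R := k) (Module.Finite.of_injective _ hinj)
  obtain ⟨g, hgU, a', ha', hsum⟩ := Submodule.mem_sup.mp hPmem
  have hq : Pole (Polynomial.aeval g₀ (P * Polynomial.X)) y := by
    rw [Polynomial.aeval_def, RingHom.algebraMap_toAlgebra]
    exact pole_eval k hpole₀ P hP
  have hgy : Pole g y := by
    obtain ⟨c, hc, hceq⟩ := hq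
    obtain ⟨t, ht⟩ := ha' y hyW
    have hu : IsUnit (1 - t * c) := isUnit_one_sub_self_of_mem_nonunits _ (Ideal.mul_mem_left _ _ hc)
    obtain ⟨r, hr⟩ := hu
    refine ⟨c * ((r⁻¹ : (X.presheaf.stalk y)ˣ) : X.presheaf.stalk y), Ideal.mul_mem_right _ _ hc, ?_⟩
    have h1 : algebraMap _ X.functionField c * g = algebraMap _ X.functionField (r : X.presheaf.stalk y) := by
      rw [hr, map_sub, map_one, map_mul, ht, eq_sub_of_add_eq hsum, mul_sub, hceq, mul_comm]
    rw [map_mul, mul_right_comm, h1, ← map_mul, Units.mul_inv, map_one]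
  have hgreg : ∀ z : X, z ∈ (⟨{y}ᶜ, hy.isOpen_compl⟩ : X.Opens) → IsReg g z := fun z hz => by
    by_cases hzU : z ∈ U
    · exact hgU z (hFU.ge hzU)
    · have hzW : z ∈ W := (hpole z hzU).isReg_inv
      have hp : IsReg (Polynomial.aeval g₀ (P * Polynomial.X)) z := by
        have hmem : g₀ ∈ regMod k (W ⊓ ⟨{y}ᶜ, hy.isOpen_compl⟩) := fun w hw => hg₀ w hw.1 hw.2
        have := (Polynomial.aeval (⟨g₀, hmem⟩ : regMod k (W ⊓ ⟨{y}ᶜ, hy.isOpen_compl⟩))
          (P * Polynomial.X)).2
        rw [Polynomial.aeval_subalgebra_coe] at this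
        exact this z ⟨hzW, hz⟩
      obtain ⟨p, hp⟩ := hp
      obtain ⟨t, ht⟩ := ha' z hzW
      exact ⟨p - t, by rw [map_sub, hp, ht, eq_sub_of_add_eq hsum]⟩
  obtain ⟨he, hsup'⟩ := regLocus_eq_of_pole hgreg
    (fun z hz => by
      obtain rfl : z = y := not_not.mp hz
      exact hgy)
  haveI := Line.isFinite_toLine k hdim g hsup' (isTransc_of_pole k hgy)
  exact he ▸ (isAffine_of_isAffineHom (toLine k g) : IsAffineOpen (regLocus g))

end Field

end Groth.Agent.DimOneAmple
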